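import Cfsg.Agent.Lib.SolvLinear.Exceptional

/-!
# Coprime groups transitive on nonzero vectors: statements of the pieces

`q` is the characteristic, `n` the dimension of `V`, and the groups have order prime to `q`.
-/

set_option autoImplicit false

namespace Cfsg.Agent.Lib.TransKGV94

open Cfsg.Agent.Lib.SolvLinear

universe u v

/-- The stabiliser of a vector. -/
def stab {q : ℕ} {V : Type v} [AddCommGroup V] [Module (ZMod q) V] {G : Type u} [Group G]
    (ρ : G →* (V ≃ₗ[ZMod q] V)) (v : V) : Subgroup G where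
  carrier := {g | ρ g v = v}
  one_mem' := by simp
  mul_mem' := by
    intro a b (ha : ρ a v = v) (hb : ρ b v = v)
    show ρ (a * b) v = v
    rw [map_mul, LinearEquiv.mul_apply, hb, ha]
  inv_mem' := by
    intro a (ha : ρ a v = v)
    show ρ a⁻¹ v = v
    conv_lhs => rw [← ha]
    rw [← LinearEquiv.mul_apply, ← map_mul, inv_mul_cancel, map_one]
    rfl

/-- Piece A: the class number of `V ⋊ G` for a transitive coprime `G`. -/
def ClassesStmt : Prop :=
  ∀ {X : Type u} [Group X] [Finite X] (p : ℕ) [Fact p.Prime] (V : Subgroup X) [V.Normal],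
    (∀ v ∈ V, v ^ p = 1) → ¬ p ∣ V.index → Subgroup.centralizer (V : Set X) = V →
    ∀ G : Subgroup X, Subgroup.IsComplement' V G →
    (∀ v ∈ V, ∀ w ∈ V, v ≠ 1 → w ≠ 1 → ∃ g ∈ G, g * v * g⁻¹ = w) →
    ∀ v ∈ V, v ≠ 1 → Nat.card (ConjClasses X) =
      Nat.card (ConjClasses G) + Nat.card (ConjClasses ↥(G ⊓ Subgroup.centralizer ({v} : Set X)))

/-- Piece B: the semilinear case. -/
def SemiStmt : Prop :=
  ∀ {q : ℕ} [Fact q.Prime] {V : Type v} [AddCommGroup V] [Module (ZMod q) V] [Finite V]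
    [Nontrivial V] {G : Type u} [Group G] [Finite G] (ρ : G →* (V ≃ₗ[ZMod q] V)),
    Function.Injective ρ → IsVecTransitive ρ → ¬ q ∣ Nat.card G → IsSemilinear ρ →
    ∀ v : V, v ≠ 0 →
      Nat.card (ConjClasses G) + Nat.card (ConjClasses (stab ρ v)) ≤ Nat.card V ∧
      (Nat.card (ConjClasses G) + Nat.card (ConjClasses (stab ρ v)) = Nat.card V →
        IsCyclic G ∨ (Nat.card V = 8 ∧ Nat.card G = 21) ∨ (Nat.card V = 9 ∧ Nat.card G = 16))

/-- Piece C: dimension two. -/
def DimTwoStmt : Prop :=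
  ∀ {q : ℕ} [Fact q.Prime] {V : Type v} [AddCommGroup V] [Module (ZMod q) V] [Finite V]
    [Nontrivial V] {G : Type u} [Group G] [Finite G] (ρ : G →* (V ≃ₗ[ZMod q] V)),
    Function.Injective ρ → IsVecTransitive ρ → ¬ q ∣ Nat.card G → ¬ IsSemilinear ρ →
    Module.finrank (ZMod q) V = 2 →
    ∀ v : V, v ≠ 0 →
      Nat.card (ConjClasses G) + Nat.card (ConjClasses (stab ρ v)) < Nat.card V

/-- Piece D: dimension four over the field of three elements. -/
def ThreeFourStmt : Prop :=
  ∀ {V : Type v} [AddCommGroup V] [Module (ZMod 3) V] [Finite V] [Nontrivial V]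
    {G : Type u} [Group G] [Finite G] (ρ : G →* (V ≃ₗ[ZMod 3] V)),
    Function.Injective ρ → IsVecTransitive ρ → ¬ 3 ∣ Nat.card G → Group.IsSolvable G →
    ¬ IsSemilinear ρ → Module.finrank (ZMod 3) V = 4 →
    ∀ v : V, v ≠ 0 →
      Nat.card (ConjClasses G) + Nat.card (ConjClasses (stab ρ v)) < Nat.card V

/-- Piece E: dimension at least three. -/
def ClassifyStmt : Prop :=
  ∀ {q : ℕ} [Fact q.Prime] {V : Type v} [AddCommGroup V] [Module (ZMod q) V] [Finite V]
    [Nontrivial V] {G : Type u} [Group G] [Finite G] (ρ : G →* (V ≃ₗ[ZMod q] V)),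
    Function.Injective ρ → IsVecTransitive ρ → ¬ q ∣ Nat.card G →
    3 ≤ Module.finrank (ZMod q) V →
    IsSemilinear ρ ∨ (q = 3 ∧ Module.finrank (ZMod q) V = 4 ∧ Group.IsSolvable G)

/-- Piece L: a faithful irreducible complex representation from a coprime irreducible one.  If a
central element `z` generates a field of degree at least `d`, the degree `m` satisfies `m * d ≤ n`. -/
def LiftStmt : Prop :=
  ∀ {q : ℕ} [Fact q.Prime] {V : Type v} [AddCommGroup V] [Module (ZMod q) V] [Finite V]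
    [Nontrivial V] {G : Type u} [Group G] [Finite G] (ρ : G →* (V ≃ₗ[ZMod q] V)),
    Function.Injective ρ → ¬ q ∣ Nat.card G →
    (∀ W : Submodule (ZMod q) V, (∀ g : G, ∀ w ∈ W, ρ g w ∈ W) → W = ⊥ ∨ W = ⊤) →
    ∀ (z : G), z ∈ Subgroup.center G → ∀ d : ℕ,
      LinearIndependent (ZMod q) (fun i : Fin d => endHom ρ z ^ (i : ℕ)) →
      ∃ (m : ℕ) (R : Representation ℂ G (Fin m → ℂ)),
        0 < m ∧ m * d ≤ Module.finrank (ZMod q) V ∧ R.IsIrreducible ∧ Function.Injective R

end Cfsg.Agent.Lib.TransKGV94
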