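import Cfsg.Agent.Lib.TransKGV94.Spec

/-!
# Conjugation on an elementary abelian normal subgroup as a linear action
-/

set_option autoImplicit false

namespace Cfsg.Agent.Lib.TransKGV94

open Cfsg.Agent.Lib.SolvLinear

universe u v

/-- The conclusion in linear language, from the pieces. -/
theorem linear_bound {q : ℕ} [Fact q.Prime] {V : Type v} [AddCommGroup V] [Module (ZMod q) V]
    [Finite V] [Nontrivial V] {G : Type u} [Group G] [Finite G] (ρ : G →* (V ≃ₗ[ZMod q] V))
    (hB : SemiStmt.{u, v}) (hC : DimTwoStmt.{u, v}) (hD : ThreeFourStmt.{u, v})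
    (hE : ClassifyStmt.{u, v}) (hρ : Function.Injective ρ) (ht : IsVecTransitive ρ)
    (hq : ¬ q ∣ Nat.card G) (hone : Module.finrank (ZMod q) V = 1 → IsSemilinear ρ) (v : V)
    (hv : v ≠ 0) :
    Nat.card (ConjClasses G) + Nat.card (ConjClasses (stab ρ v)) ≤ Nat.card V ∧
      (Nat.card (ConjClasses G) + Nat.card (ConjClasses (stab ρ v)) = Nat.card V →
        IsCyclic G ∨ (Nat.card V = 8 ∧ Nat.card G = 21) ∨ (Nat.card V = 9 ∧ Nat.card G = 16)) := by
  by_cases hs : IsSemilinear ρ
  · exact hB ρ hρ ht hq hs v hv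
  have hlt : Nat.card (ConjClasses G) + Nat.card (ConjClasses (stab ρ v)) < Nat.card V := by
    rcases Nat.lt_or_ge (Module.finrank (ZMod q) V) 3 with h | h
    · have hpos : 0 < Module.finrank (ZMod q) V := Module.finrank_pos
      have h2 : Module.finrank (ZMod q) V = 2 := by
        by_contra hne
        exact hs (hone (by omega))
      exact hC ρ hρ ht hq hs h2 v hv
    · obtain ⟨rfl, h4, hsol⟩ := (hE ρ hρ ht hq h).resolve_left hs
      exact hD ρ hρ ht hq hsol hs h4 v hv
  exact ⟨hlt.le, fun h => absurd h hlt.ne⟩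

end Cfsg.Agent.Lib.TransKGV94
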