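import Cfsg.Agent.Lib.TransKGV94.Spec

/-!
# The class number of `V ⋊ G` for a transitive coprime `G`
-/

set_option autoImplicit false

namespace Cfsg.Agent.Lib.TransKGV94

universe u

variable {X : Type u} [Group X] [Finite X]

omit [Finite X] in
/-- An element of the coset `V g` is conjugate under `V` to one whose `V`-part commutes with `g`,
when the order of `g` is prime to the exponent of the abelian normal subgroup `V`. -/
theorem Classes.exists_conj_commute (V : Subgroup X) [V.Normal]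
    (hab : ∀ a ∈ V, ∀ b ∈ V, a * b = b * a) {p : ℕ} [Fact p.Prime] (hexp : ∀ v ∈ V, v ^ p = 1)
    {g : X} (hg : ¬ p ∣ orderOf g) {w : X} (hw : w ∈ V) :
    ∃ t ∈ V, ∃ w' ∈ V, t * (w * g) * t⁻¹ = w' * g ∧ w' * g = g * w' := by
  let _ : CommGroup V :=
    { (inferInstance : Group V) with
      mul_comm := fun a b => Subtype.ext (hab a.1 a.2 b.1 b.2) }
  let σ : V →* V :=
    { toFun := fun a => ⟨g * a.1 * g⁻¹, Subgroup.Normal.conj_mem inferInstance _ a.2 g⟩
      map_one' := Subtype.ext (by simp)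
      map_mul' := fun a b => Subtype.ext (by simp only [Subgroup.coe_mul]; group) }
  set n := orderOf g with hn
  let e : V := ⟨w, hw⟩
  have hit : ∀ (i : ℕ) (a : V), ((σ^[i] a : V) : X) = g ^ i * a.1 * (g ^ i)⁻¹ := by
    intro i
    induction i with
    | zero => intro a; simp
    | succ i ih =>
      intro a
      rw [Function.iterate_succ_apply', show (σ (σ^[i] a) : X) = g * (σ^[i] a).1 * g⁻¹ from rfl,
        ih a, pow_succ' g i]
      group
  have hper : σ^[n] e = e := Subtype.ext (by rw [hit, hn, pow_orderOf_eq_one]; simp)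
  let P : ℕ → V := fun i => ∏ j ∈ Finset.range i, σ^[j] e
  have hP : ∀ i, σ (P i) * e = P (i + 1) := by
    intro i
    simp only [P, map_prod]
    rw [Finset.prod_range_succ' (fun j => σ^[j] e)]
    simp only [Function.iterate_succ_apply', Function.iterate_zero, id_eq]
  let T : V := ∏ i ∈ Finset.range n, P i
  have hfix : σ (P n) = P n := mul_right_cancel (b := e) <| by
    rw [hP n]
    simp only [P]
    rw [Finset.prod_range_succ, hper]
  have hT : σ T * e ^ n = T * P n := by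
    have h1 : σ T * e ^ n = ∏ i ∈ Finset.range n, P (i + 1) := by
      rw [← Finset.prod_congr rfl (fun i _ => hP i), Finset.prod_mul_distrib, Finset.prod_const,
        Finset.card_range, map_prod]
    have h2 : (∏ i ∈ Finset.range n, P (i + 1)) * P 0 = T * P n := by
      rw [← Finset.prod_range_succ' P n, Finset.prod_range_succ]
    rw [h1, ← h2, show P 0 = 1 from Finset.prod_range_zero _, mul_one]
  obtain ⟨k, hk⟩ : ∃ k : ℕ, p ∣ n * k + 1 := by
    refine ⟨(-((n : ZMod p))⁻¹).val, ?_⟩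
    rw [← ZMod.natCast_eq_zero_iff, Nat.cast_add, Nat.cast_mul, ZMod.natCast_val, ZMod.cast_id]
    have : (n : ZMod p) ≠ 0 := fun h => hg ((ZMod.natCast_eq_zero_iff n p).1 h)
    rw [mul_neg, mul_inv_cancel₀ this, Nat.cast_one, neg_add_cancel]
  have he : (e ^ n) ^ k * e = 1 := by
    rw [← pow_mul, ← pow_succ]
    obtain ⟨c, hc⟩ := hk
    have hep : e ^ p = 1 := Subtype.ext (by simpa using hexp w hw)
    rw [hc, pow_mul, hep, one_pow]
  let t : V := T ^ k
  have hσ : σ t * (e ^ n) ^ k = t * (P n) ^ k := by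
    show σ (T ^ k) * (e ^ n) ^ k = T ^ k * (P n) ^ k
    rw [map_pow, ← mul_pow, hT, mul_pow]
  have hσ' : σ t = t * e * (P n) ^ k :=
    calc σ t = σ t * ((e ^ n) ^ k * e) := by rw [he, mul_one]
      _ = t * e * (P n) ^ k := by rw [← mul_assoc, hσ, mul_right_comm]
  have hval : t * e * (σ t)⁻¹ = ((P n) ^ k)⁻¹ := by
    rw [hσ']
    exact mul_inv_eq_iff_eq_mul.2 (by rw [mul_comm (((P n) ^ k)⁻¹), mul_inv_cancel_right])
  refine ⟨t.1, t.2, (((P n) ^ k)⁻¹ : V).1, SetLike.coe_mem _, ?_, ?_⟩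
  · rw [← hval]
    show t.1 * (w * g) * t.1⁻¹ = t.1 * w * (g * t.1 * g⁻¹)⁻¹ * g
    group
  · have hfix' : σ ((P n) ^ k)⁻¹ = ((P n) ^ k)⁻¹ := by rw [map_inv, map_pow, hfix]
    have h := congrArg Subtype.val hfix'
    exact (mul_inv_eq_iff_eq_mul.1 h).symm

/-- Piece A. -/
theorem classes : ClassesStmt.{u} := by
  intro X _ _ p _ V _ hexp hidx hcent G hcompl htrans v hv hv1
  have hab : ∀ a ∈ V, ∀ b ∈ V, a * b = b * a := fun a ha b hb => by
    have ha' : a ∈ Subgroup.centralizer (V : Set X) := by rw [hcent]; exact ha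
    exact (Subgroup.mem_centralizer_iff.1 ha' b hb).symm
  have hcardG : Nat.card G = V.index := hcompl.symm.card_left
  have hdiv : ∀ g ∈ G, orderOf g ∣ V.index := fun g hg => by
    rw [← hcardG, show g = ((⟨g, hg⟩ : G) : X) from rfl, Subgroup.orderOf_coe]
    exact orderOf_dvd_natCard _
  obtain ⟨m, hm1, hm0⟩ := Nat.chineseRemainder
    ((Fact.out : p.Prime).coprime_iff_not_dvd.2 hidx) 1 0
  have hpart : ∀ w ∈ V, ∀ g ∈ G, w * g = g * w → (w * g) ^ m = w := by
    intro w hw g hg hc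
    rw [(show Commute w g from hc).mul_pow]
    have h1 : g ^ m = 1 :=
      orderOf_dvd_iff_pow_eq_one.1 ((hdiv g hg).trans (Nat.modEq_zero_iff_dvd.1 hm0))
    have h2 : w ^ m = w ^ 1 := pow_eq_pow_iff_modEq.2
      (hm1.of_dvd (orderOf_dvd_iff_pow_eq_one.2 (hexp w hw)))
    rw [h1, h2, pow_one, mul_one]
  have hinter : ∀ a ∈ V, a ∈ G → a = 1 := fun a ha ha' => by
    have : a ∈ V ⊓ G := ⟨ha, ha'⟩
    rwa [hcompl.disjoint.eq_bot, Subgroup.mem_bot] at this
  have hsplit : ∀ x : X, ∃ a ∈ V, ∃ h ∈ G, a * h = x := fun x => by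
    obtain ⟨⟨⟨a, ha⟩, ⟨h, hh⟩⟩, e⟩ := hcompl.2 x
    exact ⟨a, ha, h, hh, e⟩
  have hnorm : ∀ (a : X), a ∈ V → ∀ y : X, y * a * y⁻¹ ∈ V :=
    fun a ha y => Subgroup.Normal.conj_mem inferInstance a ha y
  have key : ∀ w ∈ V, ∀ g ∈ G, w * g = g * w → ∀ w' ∈ V, ∀ g' ∈ G, w' * g' = g' * w' →
      ∀ x : X, x * (w * g) * x⁻¹ = w' * g' →
        ∃ h ∈ G, h * w * h⁻¹ = w' ∧ h * g * h⁻¹ = g' := by
    intro w hw g hg hc w' hw' g' hg' hc' x hx
    have hxw : x * w * x⁻¹ = w' := by
      have := congrArg (· ^ m) hx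
      rwa [conj_pow, hpart w hw g hg hc, hpart w' hw' g' hg' hc'] at this
    have hxg : x * g * x⁻¹ = g' := by
      have : x * w * x⁻¹ * (x * g * x⁻¹) = w' * g' := by rw [← hx]; group
      rw [hxw] at this
      exact mul_left_cancel this
    obtain ⟨a, ha, h, hh, rfl⟩ := hsplit x
    refine ⟨h, hh, ?_, ?_⟩
    · rw [← hxw]
      calc h * w * h⁻¹ = a⁻¹ * (a * (h * w * h⁻¹)) := by group
        _ = a⁻¹ * ((h * w * h⁻¹) * a) := by rw [hab a ha _ (hnorm w hw h)]
        _ = a⁻¹ * (h * w * h⁻¹) * a := by group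
        _ = (h * w * h⁻¹) := by
          rw [hab _ (V.inv_mem ha) _ (hnorm w hw h)]; group
        _ = h * w * h⁻¹ * (a * a⁻¹) := by rw [mul_inv_cancel, mul_one]
        _ = a * (h * w * h⁻¹) * a⁻¹ := by rw [hab a ha _ (hnorm w hw h)]; group
        _ = a * h * w * (a * h)⁻¹ := by group
    · have hG : h * g * h⁻¹ ∈ G := G.mul_mem (G.mul_mem hh hg) (G.inv_mem hh)
      have hmem : g' * (h * g * h⁻¹)⁻¹ ∈ V := by
        rw [← hxg, show a * h * g * (a * h)⁻¹ * (h * g * h⁻¹)⁻¹ =
          a * ((h * g * h⁻¹) * a⁻¹ * (h * g * h⁻¹)⁻¹) by group]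
        exact V.mul_mem ha (hnorm _ (V.inv_mem ha) _)
      exact (mul_inv_eq_one.1 (hinter _ hmem (G.mul_mem hg' (G.inv_mem hG)))).symm
  have hH : ∀ h : ↥(G ⊓ Subgroup.centralizer ({v} : Set X)), v * (h : X) = (h : X) * v :=
    fun h => (Subgroup.mem_centralizer_singleton_iff.1 h.2.2).symm
  let f₂ : ConjClasses ↥(G ⊓ Subgroup.centralizer ({v} : Set X)) → ConjClasses X :=
    Quotient.lift (fun h => ConjClasses.mk (v * (h : X))) (by
      intro a b hab'
      obtain ⟨c, hc⟩ := isConj_iff.1 hab'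
      refine ConjClasses.mk_eq_mk_iff_isConj.2 (isConj_iff.2 ⟨(c : X), ?_⟩)
      have hc' : (c : X) * a * (c : X)⁻¹ = b := congrArg Subtype.val hc
      calc (c : X) * (v * a) * (c : X)⁻¹ = ((c : X) * v) * a * (c : X)⁻¹ := by group
        _ = v * ((c : X) * a * (c : X)⁻¹) := by rw [← hH c]; group
        _ = v * b := by rw [hc'])
  let f : ConjClasses G ⊕ ConjClasses ↥(G ⊓ Subgroup.centralizer ({v} : Set X)) → ConjClasses X :=
    Sum.elim (ConjClasses.map G.subtype) f₂
  have hone : ∀ g : X, (1 : X) * g = g * 1 := fun g => by rw [one_mul, mul_one]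
  have hinj : Function.Injective f := by
    rintro (a | a) (b | b) h
    · induction a using Quotient.inductionOn with | h a => ?_
      induction b using Quotient.inductionOn with | h b => ?_
      obtain ⟨x, hx⟩ := isConj_iff.1 (ConjClasses.mk_eq_mk_iff_isConj.1 h)
      simp only [Subgroup.coe_subtype] at hx
      obtain ⟨k, hk, -, hk2⟩ := key 1 V.one_mem a a.2 (hone _) 1 V.one_mem b b.2 (hone _) x
        (by simpa using hx)
      exact congrArg Sum.inl (ConjClasses.mk_eq_mk_iff_isConj.2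
        (isConj_iff.2 ⟨⟨k, hk⟩, Subtype.ext hk2⟩))
    · induction a using Quotient.inductionOn with | h a => ?_
      induction b using Quotient.inductionOn with | h b => ?_
      obtain ⟨x, hx⟩ := isConj_iff.1 (ConjClasses.mk_eq_mk_iff_isConj.1 h)
      simp only [Subgroup.coe_subtype] at hx
      obtain ⟨k, -, hk1, -⟩ := key 1 V.one_mem a a.2 (hone _) v hv b b.2.1 (hH b) x
        (by simpa using hx)
      exact absurd (by simpa using hk1.symm) hv1
    · induction a using Quotient.inductionOn with | h a => ?_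
      induction b using Quotient.inductionOn with | h b => ?_
      obtain ⟨x, hx⟩ := isConj_iff.1 (ConjClasses.mk_eq_mk_iff_isConj.1 h)
      simp only [Subgroup.coe_subtype] at hx
      obtain ⟨k, -, hk1, -⟩ := key v hv a a.2.1 (hH a) 1 V.one_mem b b.2 (hone _) x
        (by simpa using hx)
      exact absurd (conj_eq_one_iff.1 hk1) hv1
    · induction a using Quotient.inductionOn with | h a => ?_
      induction b using Quotient.inductionOn with | h b => ?_
      obtain ⟨x, hx⟩ := isConj_iff.1 (ConjClasses.mk_eq_mk_iff_isConj.1 h)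
      obtain ⟨k, hk, hk1, hk2⟩ := key v hv a a.2.1 (hH a) v hv b b.2.1 (hH b) x hx
      have hkc : k ∈ Subgroup.centralizer ({v} : Set X) :=
        Subgroup.mem_centralizer_singleton_iff.2 (mul_inv_eq_iff_eq_mul.1 hk1)
      exact congrArg Sum.inr (ConjClasses.mk_eq_mk_iff_isConj.2
        (isConj_iff.2 ⟨⟨k, hk, hkc⟩, Subtype.ext hk2⟩))
  have hsurj : Function.Surjective f := by
    intro c
    induction c using Quotient.inductionOn with | h x => ?_
    obtain ⟨a, ha, g, hg, rfl⟩ := hsplit x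
    obtain ⟨t, -, w', hw', ht, hc⟩ := Classes.exists_conj_commute V hab hexp
      (fun hd => hidx (hd.trans (hdiv g hg))) ha
    have e1 : ConjClasses.mk (a * g) = ConjClasses.mk (w' * g) :=
      ConjClasses.mk_eq_mk_iff_isConj.2 (isConj_iff.2 ⟨t, ht⟩)
    by_cases h1 : w' = 1
    · refine ⟨Sum.inl (ConjClasses.mk ⟨g, hg⟩), ?_⟩
      show ConjClasses.mk g = ConjClasses.mk (a * g)
      rw [e1, h1, one_mul]
    · obtain ⟨h, hh, hconj⟩ := htrans w' hw' v hv h1 hv1
      have hk : v * (h * g * h⁻¹) = (h * g * h⁻¹) * v := by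
        rw [← hconj]
        calc h * w' * h⁻¹ * (h * g * h⁻¹) = h * (w' * g) * h⁻¹ := by group
          _ = h * (g * w') * h⁻¹ := by rw [hc]
          _ = h * g * h⁻¹ * (h * w' * h⁻¹) := by group
      refine ⟨Sum.inr (ConjClasses.mk ⟨h * g * h⁻¹, G.mul_mem (G.mul_mem hh hg) (G.inv_mem hh),
        Subgroup.mem_centralizer_singleton_iff.2 hk.symm⟩), ?_⟩
      show ConjClasses.mk (v * (h * g * h⁻¹)) = ConjClasses.mk (a * g)
      rw [e1, ← hconj]
      exact ConjClasses.mk_eq_mk_iff_isConj.2 (isConj_iff.2 ⟨h⁻¹, by group⟩)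
  rw [← Nat.card_sum]
  exact (Nat.card_congr (Equiv.ofBijective f ⟨hinj, hsurj⟩)).symm

end Cfsg.Agent.Lib.TransKGV94
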