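import Cfsg.Agent.Lib.TransKGV94.SmallDeg
import Cfsg.Agent.Lib.SolvLinear.Two
import Cfsg.Agent.S4422
import Cfsg.Agent.S4423
import Cfsg.Agent.Lib.Burnside.Paqb

/-!
# Coprime transitive linear groups of dimension at least three
-/

set_option autoImplicit false

namespace Cfsg.Agent.Lib.TransKGV94

open Cfsg.Agent.Lib.SolvLinear

universe u v

variable {q : ℕ} [Fact q.Prime] {V : Type v} [AddCommGroup V] [Module (ZMod q) V] [Finite V]
  [Nontrivial V] {G : Type u} [Group G] [Finite G] {ρ : G →* (V ≃ₗ[ZMod q] V)}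

theorem irreducible_of_transitive (ht : IsVecTransitive ρ) (W : Submodule (ZMod q) V)
    (hW : ∀ g : G, ∀ w ∈ W, ρ g w ∈ W) : W = ⊥ ∨ W = ⊤ := by
  refine or_iff_not_imp_left.2 fun hne => ?_
  obtain ⟨w, hw, hw0⟩ := (Submodule.ne_bot_iff _).1 hne
  refine Submodule.eq_top_iff'.2 fun x => ?_
  rcases eq_or_ne x 0 with rfl | hx
  · exact W.zero_mem
  · obtain ⟨g, rfl⟩ := ht w x hw0 hx
    exact hW g w hw

/-- A representation of degree at most the dimension. -/
theorem exists_rep (hL : LiftStmt.{u, v}) (hρ : Function.Injective ρ) (ht : IsVecTransitive ρ)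
    (hq : ¬ q ∣ Nat.card G) :
    ∃ (m : ℕ) (R : Representation ℂ G (Fin m → ℂ)),
      0 < m ∧ m ≤ Module.finrank (ZMod q) V ∧ Function.Injective R := by
  obtain ⟨m, R, h0, h1, -, hR⟩ := hL ρ hρ hq (irreducible_of_transitive ht) 1 (Subgroup.one_mem _) 1
    (linearIndependent_unique_iff.2 (by simp))
  exact ⟨m, R, h0, by simpa using h1, hR⟩

/-- Primes of the primitive part. -/
theorem prime_step (hL : LiftStmt.{u, v}) (hρ : Function.Injective ρ) (ht : IsVecTransitive ρ)
    (hq : ¬ q ∣ Nat.card G) (hns : ¬ IsSemilinear ρ) {s : ℕ} (hs : s.Prime) (hsG : s ∣ Nat.card G)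
    (hprim : IsPrim q (Module.finrank (ZMod q) V) s) (hns1 : Module.finrank (ZMod q) V < s) :
    s ≤ 2 * Module.finrank (ZMod q) V + 1 ∧ ¬ s ^ 2 ∣ Nat.card G ∧
      (s = 2 * Module.finrank (ZMod q) V + 1 →
        (Nat.card G ≤ (q - 1) * Nat.card (Matrix.ProjectiveSpecialLinearGroup (Fin 2) (ZMod s))) ∧
        Nat.card (Matrix.ProjectiveSpecialLinearGroup (Fin 2) (ZMod s)) ∣ Nat.card G) := by
  haveI := Fact.mk hs
  set n := Module.finrank (ZMod q) V with hn
  have hnot : ∀ P : Sylow s G, ¬ (P : Subgroup G).Normal := fun P hP =>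
    hns (@semilinear_of_normal_pGroup q _ V _ _ _ _ G _ ρ _ hρ ht s hs hprim (P : Subgroup G) hP P.2
      (P.ne_bot_of_dvd_card hsG))
  obtain ⟨P⟩ := (inferInstance : Nonempty (Sylow s G))
  obtain ⟨m, R, hm0, hmn, hR⟩ := exists_rep hL hρ ht hq
  have hsq : s ≠ q := fun h => hq (h ▸ hsG)
  have h2 : ¬ s ^ 2 ∣ Nat.card G := fun h => hnot P (normal_of_sq R hR hm0 (by omega)
    (fun y hy a b ha hb => centralizer_comm hρ hs hsq hprim hy ha hb) h P)
  have hle : s ≤ 2 * n + 1 := by
    by_contra hc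
    exact hnot P (normal_of_half R hR hm0 (Or.inl (by omega)) P)
  refine ⟨hle, h2, fun hs2 => ?_⟩
  have hscal : ∀ z ∈ Subgroup.center G, ∃ c : ZMod q, endHom ρ z = c • 1 := by
    intro z hz
    by_contra hc
    push Not at hc
    have hli : LinearIndependent (ZMod q) (fun i : Fin 2 => endHom ρ z ^ (i : ℕ)) := by
      rw [linearIndependent_fin2]
      refine ⟨?_, fun a h => ?_⟩
      · simp only [Fin.val_one, pow_one]
        exact fun h => hc 0 (by rw [h, zero_smul])
      · simp only [Fin.val_one, pow_one, Fin.val_zero, pow_zero] at h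
        rcases eq_or_ne a 0 with rfl | ha
        · rw [zero_smul] at h
          exact zero_ne_one h
        · exact hc a⁻¹ (by rw [← h, smul_smul, inv_mul_cancel₀ ha, one_smul])
    obtain ⟨m', R', hm0', hmn', -, hR'⟩ :=
      hL ρ hρ hq (irreducible_of_transitive ht) z hz 2 hli
    exact hnot P (normal_of_half R' hR' hm0' (Or.inl (by omega)) P)
  obtain ⟨-, ⟨e⟩⟩ := (normal_or_psl R hR hsG h2 (by omega)).resolve_left fun h => hnot P (h P)
  have hcard : Nat.card G = Nat.card (Matrix.ProjectiveSpecialLinearGroup (Fin 2) (ZMod s)) *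
      Nat.card (Subgroup.center G) := by
    rw [Subgroup.card_eq_card_quotient_mul_card_subgroup (Subgroup.center G), Nat.card_congr e.toEquiv]
  refine ⟨?_, hcard ▸ dvd_mul_right _ _⟩
  rw [hcard, mul_comm]
  refine Nat.mul_le_mul_right _ ?_
  choose c hc using hscal
  have hc0 : ∀ z : Subgroup.center G, c z z.2 ≠ 0 := by
    intro z h
    obtain ⟨v0, hv0⟩ := exists_ne (0 : V)
    have h1 := LinearMap.congr_fun (hc z z.2) v0
    rw [h, zero_smul, LinearMap.zero_apply, endHom_apply] at h1
    exact hv0 ((ρ (z : G)).map_eq_zero_iff.1 h1)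
  let f : Subgroup.center G → (ZMod q)ˣ := fun z => Units.mk0 (c z z.2) (hc0 z)
  have hf : Function.Injective f := by
    intro a b hab
    refine Subtype.ext (endHom_injective ρ hρ ?_)
    have h1 : c a a.2 = c b b.2 := congrArg Units.val hab
    rw [hc a a.2, hc b b.2, h1]
  refine (Nat.card_le_card_of_injective f hf).trans ?_
  rw [Nat.card_units, Nat.card_zmod]

theorem pow_sub_one_dvd (ht : IsVecTransitive ρ) :
    q ^ Module.finrank (ZMod q) V - 1 ∣ Nat.card G := pow_sub_one_dvd_card ht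

theorem card_dvd_gl (hρ : Function.Injective ρ) {n : ℕ} (hn : Module.finrank (ZMod q) V = n) :
    Nat.card G ∣ Nat.card (GL (Fin n) (ZMod q)) := by
  let b := Module.finBasisOfFinrankEq (ZMod q) V hn
  let e : (V ≃ₗ[ZMod q] V) ≃* GL (Fin n) (ZMod q) :=
    (LinearMap.GeneralLinearGroup.generalLinearEquiv (ZMod q) V).symm.trans
      (Units.mapEquiv (algEquivMatrix b).toMulEquiv)
  exact Subgroup.card_dvd_of_injective (e.toMonoidHom.comp ρ) (e.injective.comp hρ)

/-- Dimension four over three elements. -/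
theorem three_four (hL : LiftStmt.{u, v}) (hρ : Function.Injective ρ) (ht : IsVecTransitive ρ)
    (hq : ¬ q ∣ Nat.card G) (hq3 : q = 3) (hn : Module.finrank (ZMod q) V = 4) :
    Group.IsSolvable G := by
  subst hq3
  haveI : Fact (Nat.Prime 13) := ⟨by norm_num⟩
  have h13 : ¬ 13 ∣ Nat.card G := by
    intro h
    obtain ⟨m, R, hm0, hmn, hR⟩ := exists_rep hL hρ ht hq
    obtain ⟨P⟩ := (inferInstance : Nonempty (Sylow 13 G))
    haveI := normal_of_half R hR hm0 (Or.inl (by omega)) P
    obtain ⟨A, hAn, hA, h13A⟩ := exists_abelian_normal (by norm_num) (P : Subgroup G) P.2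
      (P.ne_bot_of_dvd_card h)
    haveI := hAn
    have h1 := h13A.trans (natCard_dvd_degree ht A hA hρ)
    have h2 : degree ρ A ∣ 4 := hn ▸ degree_dvd ht A hA
    have h3 : degree ρ A ≤ 4 := Nat.le_of_dvd (by norm_num) h2
    interval_cases hd : degree ρ A <;> (revert h1 h2; norm_num)
  have hGL := card_dvd_gl hρ hn
  rw [Matrix.card_GL_field, ZMod.card] at hGL
  simp only [Fin.prod_univ_four] at hGL
  norm_num at hGL
  have hcop : Nat.Coprime (Nat.card G) (3 ^ 6 * 13) :=
    Nat.Coprime.mul_right (((Nat.prime_three.coprime_iff_not_dvd).2 hq).symm.pow_right 6)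
      (((by norm_num : Nat.Prime 13).coprime_iff_not_dvd).2 h13).symm
  have h25 : Nat.card G ∣ 2 ^ 9 * 5 := by
    refine hcop.dvd_of_dvd_mul_right ?_
    norm_num
    exact hGL
  obtain ⟨a, b, ha, hb, hab⟩ := (Nat.dvd_mul).1 h25
  obtain ⟨i, -, rfl⟩ := (Nat.dvd_prime_pow Nat.prime_two).1 ha
  obtain ⟨j, -, rfl⟩ := (Nat.dvd_prime_pow (by norm_num : Nat.Prime 5)).1
    (show b ∣ 5 ^ 1 by rwa [pow_one])
  exact Burnside.isSolvable_of_card_eq_prime_pow_mul Nat.prime_two (by norm_num : Nat.Prime 5) hab.symm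

/-- Dimension six over three or five elements. -/
theorem six (hL : LiftStmt.{u, v}) (hρ : Function.Injective ρ) (ht : IsVecTransitive ρ)
    (hq : ¬ q ∣ Nat.card G) (hn : Module.finrank (ZMod q) V = 6) {t : ℕ} (htp : t.Prime)
    (htG : t ∣ q ^ 6 - 1) (ht3 : ∀ d, d ∣ 6 → d ≠ 3 → d ≠ 6 → ¬ t ∣ q ^ d - 1)
    (h7G : 7 ∣ q ^ 6 - 1) (h7 : IsPrim q 6 7) (hbig : 13 < t ∨ (t = 13 ∧ q = 3)) :
    IsSemilinear ρ := by
  haveI := Fact.mk htp
  have hcardG := pow_sub_one_dvd ht
  rw [hn] at hcardG
  obtain ⟨m, R, hm0, hmn, hR⟩ := exists_rep hL hρ ht hq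
  obtain ⟨P⟩ := (inferInstance : Nonempty (Sylow t G))
  haveI hPn : (P : Subgroup G).Normal := by
    refine normal_of_half R hR hm0 ?_ P
    rcases hbig with h | ⟨rfl, rfl⟩
    · exact Or.inl (by omega)
    · rcases (show 2 * m + 1 < 13 ∨ 2 * m + 1 = 13 by omega) with h | h
      · exact Or.inl h
      · exact Or.inr ⟨h, by norm_num, hq⟩
  obtain ⟨A, hAn, hA, htA⟩ := exists_abelian_normal htp (P : Subgroup G) P.2
    (P.ne_bot_of_dvd_card (htG.trans hcardG))
  haveI := hAn
  have hd6 : degree ρ A ∣ 6 := hn ▸ degree_dvd ht A hA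
  by_cases h6 : degree ρ A = 6
  · exact ⟨A, hAn, hA, h6.trans hn.symm⟩
  have hd3 : degree ρ A = 3 := by
    by_contra h3
    exact ht3 _ hd6 h3 h6 (htA.trans (natCard_dvd_degree ht A hA hρ))
  set C := Subgroup.centralizer (A : Set G) with hC
  haveI : Finite (Module.End (ZMod q) V) :=
    Finite.of_injective (fun f : Module.End (ZMod q) V => ⇑f) DFunLike.coe_injective
  haveI : Finite (alg ρ A ≃ₐ[ZMod q] alg ρ A) :=
    Finite.of_injective (fun e : alg ρ A ≃ₐ[ZMod q] alg ρ A => ⇑e) DFunLike.coe_injective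
  have hker : (conjAut ρ A).ker = C := by
    ext g
    rw [MonoidHom.mem_ker, conjAut_eq_one_iff hρ, hC, Subgroup.mem_centralizer_iff]
    exact ⟨fun h a ha => (h a ha).symm, fun h a ha => (h a ha).symm⟩
  have hidx : C.index ≤ 3 := by
    rw [← hker, Subgroup.index_ker]
    exact (Subgroup.card_le_card_group _).trans ((card_aut_le ht A hA).trans hd3.le)
  haveI : Fact (Nat.Prime 7) := ⟨by norm_num⟩
  have h7C : 7 ∣ Nat.card C := by
    have h := h7G.trans hcardG
    rw [← C.card_mul_index] at h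
    refine ((by norm_num : Nat.Prime 7).dvd_mul.1 h).resolve_right fun h' => ?_
    have := Nat.le_of_dvd (Nat.pos_of_ne_zero C.index_ne_zero_of_finite) h'
    omega
  have h7' : IsPrim q (Module.finrank (ZMod q) V) 7 := hn ▸ h7
  by_cases hirr : ∀ W : Submodule (ZMod q) V, (∀ g : C, ∀ w ∈ W, ρ g w ∈ W) → W = ⊥ ∨ W = ⊤
  · obtain ⟨z, hz⟩ := exists_prime_orderOf_dvd_card' (G := A) t htA
    have hzC : (z : G) ∈ C := Subgroup.mem_centralizer_iff.2 fun a ha =>
      congrArg Subtype.val (mul_comm' (⟨a, ha⟩ : A) z)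
    have hzc : (⟨z, hzC⟩ : C) ∈ Subgroup.center C := Subgroup.mem_center_iff.2 fun g =>
      Subtype.ext (Subgroup.mem_centralizer_iff.1 g.2 z z.2).symm
    letI := (isField_alg ht A hA).toField
    let x : alg ρ A := ⟨endHom ρ z, endHom_mem_alg ρ z.2⟩
    have hx : orderOf x = t := by
      have hinj : Function.Injective ((alg ρ A).val : alg ρ A → Module.End (ZMod q) V) :=
        Subtype.val_injective
      rw [← orderOf_injective (alg ρ A).val.toMonoidHom hinj x]
      exact (orderOf_injective (endHom ρ) (endHom_injective ρ hρ) (z : G)).trans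
        ((Subgroup.orderOf_coe z).trans hz)
    have hfin : IsIntegral (ZMod q) x := IsIntegral.of_finite (ZMod q) x
    set k := (minpoly (ZMod q) x).natDegree with hk
    have hk3 : 3 ≤ k := by
      let K := Algebra.adjoin (ZMod q) ({x} : Set (alg ρ A))
      have hKcard : Nat.card K = q ^ k := by
        rw [Module.natCard_eq_pow_finrank (K := ZMod q), Nat.card_zmod,
          (Algebra.adjoin.powerBasis hfin).finrank, Algebra.adjoin.powerBasis_dim]
      letI : Field K := (Finite.isField_of_domain K).toField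
      let y : K := ⟨x, Algebra.self_mem_adjoin_singleton _ _⟩
      have hy : orderOf y = t := by
        rw [← hx, ← orderOf_injective K.val.toMonoidHom Subtype.val_injective y]
        rfl
      have hy0 : y ≠ 0 := fun h => by
        rw [h, orderOf_zero] at hy
        exact htp.ne_zero hy.symm
      have h1 : t ∣ q ^ k - 1 := by
        rw [← hKcard, ← Nat.card_units, ← hy, show y = ((Units.mk0 y hy0 : Kˣ) : K) from rfl,
          orderOf_units]
        exact orderOf_dvd_natCard _
      by_contra hc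
      have hk0 : 0 < k := minpoly.natDegree_pos hfin
      have : k = 1 ∨ k = 2 := by omega
      rcases this with h | h
      · exact ht3 1 (by norm_num) (by norm_num) (by norm_num) (h ▸ h1)
      · exact ht3 2 (by norm_num) (by norm_num) (by norm_num) (h ▸ h1)
    have hli : LinearIndependent (ZMod q) (fun i : Fin 3 => endHom (ρ.comp C.subtype) ⟨z, hzC⟩ ^ (i : ℕ)) :=
      ((linearIndependent_pow x).map' (alg ρ A).val.toLinearMap
        (LinearMap.ker_eq_bot.2 Subtype.val_injective)).comp (Fin.castLE hk3) (Fin.castLE_injective hk3)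
    obtain ⟨m', R', hm0', hmn', -, hR'⟩ := hL (ρ.comp C.subtype) (hρ.comp C.subtype_injective)
      (fun h => hq (h.trans (Subgroup.card_subgroup_dvd_card C))) hirr ⟨z, hzC⟩ hzc 3 hli
    obtain ⟨Q⟩ := (inferInstance : Nonempty (Sylow 7 C))
    haveI := normal_of_half R' hR' hm0' (Or.inl (by omega)) Q
    haveI : (Q : Subgroup C).Characteristic := Q.characteristic_of_normal inferInstance
    exact semilinear_of_normal_pGroup hρ ht (by norm_num) h7' ((Q : Subgroup C).map C.subtype)
      (Q.2.map C.subtype) fun h => Q.ne_bot_of_dvd_card h7C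
        ((Subgroup.map_eq_bot_iff_of_injective _ C.subtype_injective).1 h)
  · push Not at hirr
    obtain ⟨W, hWinv, hWb, hWt⟩ := hirr
    have hAC : A ≤ C := fun a ha => Subgroup.mem_centralizer_iff.2 fun b hb =>
      congrArg Subtype.val (mul_comm' (⟨b, hb⟩ : A) ⟨a, ha⟩)
    letI := (isField_alg ht A hA).toField
    have hWalg : ∀ c : alg ρ A, ∀ w ∈ W, (c : Module.End (ZMod q) V) w ∈ W := by
      intro c w hw
      have key : ∀ d ∈ alg ρ A, ∀ w ∈ W, d w ∈ W := fun d hd => by
        refine Algebra.adjoin_induction ?_ ?_ ?_ ?_ hd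
        · rintro _ ⟨a, ha, rfl⟩ w hw
          exact hWinv ⟨a, hAC ha⟩ w hw
        · exact fun r w hw => W.smul_mem r hw
        · exact fun _ _ _ _ h h' w hw => W.add_mem (h w hw) (h' w hw)
        · exact fun _ _ _ _ h h' w hw => h _ (h' w hw)
      exact key c c.2 w hw
    obtain ⟨w0, hw0, hw00⟩ := (Submodule.ne_bot_iff _).1 hWb
    let W' : Submodule (alg ρ A) V :=
      { carrier := W
        add_mem' := W.add_mem
        zero_mem' := W.zero_mem
        smul_mem' := fun c w hw => hWalg c w hw }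
    have hW' : W' = Submodule.span (alg ρ A) {w0} := by
      have h1 : Submodule.span (alg ρ A) {w0} ≤ W' :=
        Submodule.span_le.2 (Set.singleton_subset_iff.2 hw0)
      haveI : Module.Finite (alg ρ A) V := Module.Finite.of_finite
      refine (Submodule.eq_of_le_of_finrank_le h1 ?_).symm
      have h2 : Module.finrank (alg ρ A) V = 2 := by
        have h := Module.finrank_mul_finrank (ZMod q) (alg ρ A) V
        change degree ρ A * Module.finrank (alg ρ A) V = Module.finrank (ZMod q) V at h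
        rw [hd3, hn] at h
        omega
      have h3 : Module.finrank (alg ρ A) W' < 2 := by
        rw [← h2]
        refine Submodule.finrank_lt fun h => hWt ?_
        refine Submodule.eq_top_iff'.2 fun x => ?_
        exact (Submodule.eq_top_iff'.1 h x : x ∈ W')
      rw [finrank_span_singleton hw00]
      omega
    have hcw : ∀ a : C, ∃ c : alg ρ A, ∀ w ∈ W, ρ (a : G) w = (c : Module.End (ZMod q) V) w := by
      intro a
      have hm : ρ (a : G) w0 ∈ W' := hWinv a w0 hw0
      rw [hW', Submodule.mem_span_singleton] at hm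
      obtain ⟨c, hc⟩ := hm
      refine ⟨c, fun w hw => ?_⟩
      have hm' : w ∈ W' := hw
      rw [hW', Submodule.mem_span_singleton] at hm'
      obtain ⟨d, rfl⟩ := hm'
      have hcomm : Commute (endHom ρ (a : G)) (d : Module.End (ZMod q) V) :=
        alg_commute_of_commute ρ (fun b hb => Commute.map
          (Subgroup.mem_centralizer_iff.1 a.2 b hb).symm (endHom ρ)) d.2
      show endHom ρ (a : G) ((d : Module.End (ZMod q) V) w0) =
        (c : Module.End (ZMod q) V) ((d : Module.End (ZMod q) V) w0)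
      rw [← Module.End.mul_apply, hcomm.eq, Module.End.mul_apply, endHom_apply, ← hc]
      exact LinearMap.congr_fun (alg_commute ρ hA d.2 c.2).eq w0
    have hab : ∀ a ∈ C, ∀ b ∈ C, ρ (a * b) w0 = ρ (b * a) w0 := by
      intro a ha b hb
      obtain ⟨c, hc⟩ := hcw ⟨a, ha⟩
      obtain ⟨d, hd⟩ := hcw ⟨b, hb⟩
      rw [map_mul, map_mul, LinearEquiv.mul_apply, LinearEquiv.mul_apply, hd w0 hw0, hc w0 hw0,
        hc _ (hWalg d w0 hw0), hd _ (hWalg c w0 hw0)]
      exact LinearMap.congr_fun (alg_commute ρ hA c.2 d.2).eq w0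
    haveI : C.Normal := by rw [hC]; infer_instance
    have hCc : IsMulCommutative C := by
      refine ⟨⟨fun a b => Subtype.ext (hρ (LinearEquiv.ext fun x => ?_))⟩⟩
      rcases eq_or_ne x 0 with rfl | hx
      · rw [map_zero, map_zero]
      obtain ⟨g, rfl⟩ := ht w0 x hw00 hx
      have h := hab _ (Subgroup.Normal.conj_mem inferInstance (a : G) a.2 g⁻¹) _
        (Subgroup.Normal.conj_mem inferInstance (b : G) b.2 g⁻¹)
      rw [inv_inv] at h
      have h' := congrArg (ρ g) h
      rw [← LinearEquiv.mul_apply, ← map_mul, ← LinearEquiv.mul_apply, ← map_mul,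
        show g * (g⁻¹ * a * g * (g⁻¹ * b * g)) = a * b * g by group,
        show g * (g⁻¹ * b * g * (g⁻¹ * a * g)) = b * a * g by group,
        map_mul, map_mul _ ((b : G) * a), LinearEquiv.mul_apply, LinearEquiv.mul_apply] at h'
      exact h'
    refine ⟨C, inferInstance, hCc, le_antisymm (degree_le ht C hCc) ?_⟩
    by_contra hc
    exact h7' _ (degree_pos ht C hCc) (not_le.1 hc) (h7C.trans (natCard_dvd_degree ht C hCc hρ))

theorem five_pow_bound : ∀ n : ℕ, 6 ≤ n → (2 * n + 1) * ((2 * n + 2) * (2 * n)) < 2 * 5 ^ (n - 1) := by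
  intro n hn
  induction n, hn using Nat.le_induction with
  | base => norm_num
  | succ n hn ih =>
    rw [show n + 1 - 1 = n - 1 + 1 by omega, pow_succ]
    have h : (2 * (n + 1) + 1) * ((2 * (n + 1) + 2) * (2 * (n + 1))) ≤
        5 * ((2 * n + 1) * ((2 * n + 2) * (2 * n))) := by
      nlinarith [Nat.mul_le_mul hn (Nat.mul_le_mul hn (le_refl n)), Nat.mul_le_mul hn (le_refl n)]
    nlinarith [ih, h]

/-- Dimension at least three. -/
theorem classify (hL : LiftStmt.{u, v})
    (hodd : ∀ (G : Type u) [Group G] [Finite G], Odd (Nat.card G) → Group.IsSolvable G) :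
    ClassifyStmt.{u, v} := by
  intro q _ V _ _ _ _ G _ _ ρ hρ ht hq hn
  set n := Module.finrank (ZMod q) V with hndef
  have hqp := (Fact.out : q.Prime)
  have hcardG := pow_sub_one_dvd ht
  rw [← hndef] at hcardG
  by_cases hq2 : q = 2
  · subst hq2
    haveI : Group.IsSolvable G := hodd G (Nat.odd_iff.2 (Nat.two_dvd_ne_zero.1 hq))
    exact Or.inl ((semilinear_or_three_four hρ ht hn).resolve_right fun h => by omega)
  by_cases h34 : q = 3 ∧ n = 4
  · exact Or.inr ⟨h34.1, h34.2, three_four hL hρ ht hq h34.1 h34.2⟩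
  left
  by_cases h36 : q = 3 ∧ n = 6
  · obtain ⟨rfl, h6⟩ := h36
    refine six hL hρ ht hq h6 (t := 13) (by norm_num) (by norm_num) (fun d hd h3 h6' => ?_)
      (by norm_num) (fun i hi hi6 => by interval_cases i <;> norm_num) (Or.inr ⟨rfl, rfl⟩)
    have := Nat.le_of_dvd (by norm_num) hd
    interval_cases d <;> (revert hd h3 h6'; norm_num)
  by_cases h56 : q = 5 ∧ n = 6
  · obtain ⟨rfl, h6⟩ := h56
    refine six hL hρ ht hq h6 (t := 31) (by norm_num) (by norm_num) (fun d hd h3 h6' => ?_)
      (by norm_num) (fun i hi hi6 => by interval_cases i <;> norm_num) (Or.inl (by norm_num))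
    have := Nat.le_of_dvd (by norm_num) hd
    interval_cases d <;> (revert hd h3 h6'; norm_num)
  by_contra hns
  obtain ⟨m, hm, hcop, hmbig⟩ := (Cfsg.Agent.S4423.result q n hqp.isPrimePow hn).1 (by
    intro hmem
    simp only [List.mem_cons, Prod.mk.injEq, List.not_mem_nil, or_false] at hmem
    have h4 : q ≠ 4 := fun h => by rw [h] at hqp; norm_num at hqp
    omega)
  have hprimes : ∀ s ∈ m.primeFactors, (s = n + 1 ∨ s = 2 * n + 1) ∧ ¬ s ^ 2 ∣ m := by
    intro s hs
    obtain ⟨hsp, hsm, -⟩ := Nat.mem_primeFactors.1 hs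
    have hsd : s ∣ q ^ n - 1 := hsm.trans hm
    have hprim : IsPrim q n s := fun i hi hin hd =>
      hsp.one_lt.ne' (Nat.eq_one_of_dvd_coprimes ((hcop i hi hin).coprime_dvd_left hsm) dvd_rfl hd)
    have hlt : n < s := PPD.lt_of_primitive hsp hqp.one_lt.le (by omega) hsd hprim
    have hmod : s % n = 1 % n := Cfsg.Agent.S4422.result q n s hqp.two_le (by omega) hsd
      fun i hi hin => hsp.coprime_iff_not_dvd.2 (hprim i hi hin)
    obtain ⟨hle, hsq, -⟩ := prime_step hL hρ ht hq hns hsp (hsd.trans hcardG) hprim hlt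
    refine ⟨?_, fun h => hsq (h.trans (hm.trans hcardG))⟩
    rw [← hndef] at hle
    rw [Nat.one_mod_eq_one.2 (by omega)] at hmod
    have h := Nat.div_add_mod s n
    rw [hmod] at h
    have hk : s / n ≤ 2 := by
      by_contra hc
      have : n * 3 ≤ n * (s / n) := Nat.mul_le_mul_left n (by omega)
      omega
    interval_cases hk' : s / n <;> omega
  have hm0 : m ≠ 0 := by omega
  have hsqf : Squarefree m := (Nat.squarefree_iff_prime_squarefree).2 fun p hp hpp =>
    (hprimes p (Nat.mem_primeFactors.2 ⟨hp, dvd_of_mul_right_dvd hpp, hm0⟩)).2 (by rwa [pow_two])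
  have hsub : m.primeFactors ⊆ {n + 1, 2 * n + 1} := fun s hs => by
    simpa using (hprimes s hs).1
  have hprod := Nat.prod_primeFactors_of_squarefree hsqf
  have hboth : n + 1 ∈ m.primeFactors ∧ 2 * n + 1 ∈ m.primeFactors := by
    constructor <;> by_contra hc
    · have h1 : m.primeFactors ⊆ {2 * n + 1} := fun s hs => by
        have := hsub hs
        simp only [Finset.mem_insert, Finset.mem_singleton] at this ⊢
        exact this.resolve_left fun h => hc (h ▸ hs)
      have h2 := Finset.prod_le_prod_of_subset_of_one_le' (f := fun p : ℕ => p) h1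
        fun p hp _ => by rw [Finset.mem_singleton] at hp; omega
      rw [hprod, Finset.prod_singleton] at h2
      omega
    · have h1 : m.primeFactors ⊆ {n + 1} := fun s hs => by
        have := hsub hs
        simp only [Finset.mem_insert, Finset.mem_singleton] at this ⊢
        exact this.resolve_right fun h => hc (h ▸ hs)
      have h2 := Finset.prod_le_prod_of_subset_of_one_le' (f := fun p : ℕ => p) h1
        fun p hp _ => by rw [Finset.mem_singleton] at hp; omega
      rw [hprod, Finset.prod_singleton] at h2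
      omega
  obtain ⟨⟨hp1, hd1, -⟩, ⟨hp2, hd2, -⟩⟩ :=
    And.intro (Nat.mem_primeFactors.1 hboth.1) (Nat.mem_primeFactors.1 hboth.2)
  haveI := Fact.mk hp2
  have hprim : IsPrim q n (2 * n + 1) := fun i hi hin hd =>
    hp2.one_lt.ne' (Nat.eq_one_of_dvd_coprimes ((hcop i hi hin).coprime_dvd_left hd2) dvd_rfl hd)
  obtain ⟨hbound, hpsl⟩ := (prime_step hL hρ ht hq hns hp2 ((hd2.trans hm).trans hcardG) hprim
    (by omega)).2.2 rfl
  have hq5 : 5 ≤ q := by
    have h3 : q ≠ 3 := fun h => hq (h ▸ (three_dvd_psl (s := 2 * n + 1) (by omega)).trans hpsl)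
    have h4 : q ≠ 4 := fun h => by rw [h] at hqp; norm_num at hqp
    have := hqp.two_le
    omega
  have hne : n % 2 = 0 := by
    rcases hp1.eq_two_or_odd with h | h <;> omega
  have hn6 : 6 ≤ n := by
    by_contra hc
    have hn4 : n = 4 := by omega
    rw [hn4] at hp2
    norm_num at hp2
  have hpl := card_psl_mul (s := 2 * n + 1) (by omega)
  rw [show 2 * n + 1 + 1 = 2 * n + 2 by omega, show 2 * n + 1 - 1 = 2 * n by omega] at hpl
  have h5 := five_pow_bound n hn6
  have hpow : (q - 1) * q ^ (n - 1) ≤ q ^ n - 1 := by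
    have h1 : q ^ n = q * q ^ (n - 1) := by rw [← pow_succ', show n - 1 + 1 = n by omega]
    have h2 : 1 ≤ q ^ (n - 1) := Nat.one_le_pow _ _ hqp.pos
    rw [h1, Nat.sub_mul, one_mul]
    omega
  have h6 : (q - 1) * q ^ (n - 1) ≤
      (q - 1) * Nat.card (Matrix.ProjectiveSpecialLinearGroup (Fin 2) (ZMod (2 * n + 1))) :=
    hpow.trans ((Nat.le_of_dvd Nat.card_pos hcardG).trans hbound)
  have h7 := Nat.le_of_mul_le_mul_left h6 (by omega)
  have h8 : 5 ^ (n - 1) ≤ q ^ (n - 1) := Nat.pow_le_pow_left hq5 _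
  omega

end Cfsg.Agent.Lib.TransKGV94
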