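import Cfsg.Agent.Lib.TransKGV94.DimTwoAux

/-!
# Piece C: coprime transitive groups in dimension two (helper6)
-/

set_option autoImplicit false

namespace Cfsg.Agent.Lib.TransKGV94

open Cfsg.Agent.Lib.SolvLinear Cfsg.Agent.Lib.Chars

universe u v

namespace DimTwoAux

/-- Class number from a bound on the centralisers of noncentral elements. -/
theorem card_classes_le {G : Type u} [Group G] [Finite G] (B : ℕ)
    (h : ∀ g : G, g ∉ Subgroup.center G →
      Nat.card (Subgroup.centralizer {g} : Subgroup G) ≤ Nat.card (Subgroup.center G) * B) :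
    Nat.card (ConjClasses G) ≤ Nat.card (Subgroup.center G) * (1 + B) := by
  classical
  have := Fintype.ofFinite G
  have hk := card_comm_eq_card_conjClasses_mul_card G
  have hsum : Nat.card {p : G × G // Commute p.1 p.2} =
      ∑ g : G, Nat.card (Subgroup.centralizer {g} : Subgroup G) := by
    rw [← Nat.card_sigma]
    exact Nat.card_congr
      { toFun := fun p => ⟨p.1.1, p.1.2, Subgroup.mem_centralizer_singleton_iff.mpr p.2.eq.symm⟩
        invFun := fun s => ⟨(s.1, s.2.1),
          (Subgroup.mem_centralizer_singleton_iff.mp s.2.2).symm⟩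
        left_inv := fun p => rfl
        right_inv := fun s => rfl }
  have hle : ∀ g : G, Nat.card (Subgroup.centralizer {g} : Subgroup G) ≤
      (if g ∈ Subgroup.center G then Nat.card G else 0) + Nat.card (Subgroup.center G) * B := by
    intro g
    by_cases hg : g ∈ Subgroup.center G
    · rw [if_pos hg]
      exact (Subgroup.card_le_card_group _).trans (Nat.le_add_right _ _)
    · rw [if_neg hg, zero_add]
      exact h g hg
  have h2 : Nat.card (ConjClasses G) * Nat.card G ≤
      Nat.card (Subgroup.center G) * (1 + B) * Nat.card G := by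
    rw [← hk, hsum]
    refine (Finset.sum_le_sum fun g _ => hle g).trans (le_of_eq ?_)
    rw [Finset.sum_add_distrib, Finset.sum_const, Finset.card_univ, smul_eq_mul,
      ← Finset.sum_filter, Finset.sum_const, smul_eq_mul, ← Nat.card_eq_fintype_card]
    rw [show (Finset.univ.filter (· ∈ Subgroup.center G)).card = Nat.card (Subgroup.center G) by
      rw [Nat.card_eq_fintype_card, Fintype.card_subtype]]
    ring
  exact Nat.le_of_mul_le_mul_right h2 Nat.card_pos

end DimTwoAux

open DimTwoAux

/-- Piece C. -/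
theorem dimTwo (hL : LiftStmt.{u, v}) : DimTwoStmt.{u, v} := by
  intro q _ V _ _ _ _ G _ _ ρ hρ ht hq hns hn v hv
  classical
  have hqp : q.Prime := Fact.out
  -- normal abelian subgroups are scalar
  have hk : ∀ A : Subgroup G, A.Normal → IsMulCommutative A → degree ρ A = 1 := by
    intro A hAn hA
    haveI := hAn
    have h1 := degree_lt_of_not_semilinear ht hns A hA
    have h2 := degree_pos ht A hA
    omega
  have hcen : ∀ A : Subgroup G, A.Normal → IsMulCommutative A →
      ∀ a ∈ A, a ∈ Subgroup.center G := by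
    intro A hAn hA a ha
    haveI := hAn
    haveI : Finite (Module.End (ZMod q) V) :=
      Finite.of_injective (fun f : Module.End (ZMod q) V => ⇑f) DFunLike.coe_injective
    haveI : Finite (alg ρ A ≃ₐ[ZMod q] alg ρ A) :=
      Finite.of_injective (fun e : alg ρ A ≃ₐ[ZMod q] alg ρ A => ⇑e) DFunLike.coe_injective
    haveI : Subsingleton (alg ρ A ≃ₐ[ZMod q] alg ρ A) :=
      Finite.card_le_one_iff_subsingleton.1 ((card_aut_le ht A hA).trans (hk A hAn hA).le)
    exact Subgroup.mem_center_iff.2 fun g =>
      (conjAut_eq_one_iff hρ A g).1 (Subsingleton.elim _ _) a ha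
  have hdvdA : ∀ A : Subgroup G, A.Normal → IsMulCommutative A → Nat.card A ∣ q - 1 := by
    intro A hAn hA
    haveI := hAn
    have := natCard_dvd_degree ht A hA hρ
    rwa [hk A hAn hA, pow_one] at this
  have hcard : q ^ 2 - 1 ∣ Nat.card G := hn ▸ pow_sub_one_dvd_card ht
  have hq2 : 2 * q ≤ q ^ 2 := by rw [pow_two]; exact Nat.mul_le_mul_right _ hqp.two_le
  have hnab : ¬ ∀ x y : G, x * y = y * x := by
    intro hc
    have h1 := hdvdA ⊤ inferInstance ⟨⟨fun a b => Subtype.ext (hc a b)⟩⟩
    rw [Subgroup.card_top] at h1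
    have := Nat.le_of_dvd (by have := hqp.two_le; omega) (hcard.trans h1)
    have := hqp.two_le
    omega
  -- a faithful irreducible complex plane
  have hirr : ∀ W : Submodule (ZMod q) V, (∀ g : G, ∀ w ∈ W, ρ g w ∈ W) → W = ⊥ ∨ W = ⊤ := by
    intro W hW
    refine or_iff_not_imp_left.2 fun hb => ?_
    obtain ⟨w, hw, hw0⟩ := W.ne_bot_iff.1 hb
    refine Submodule.eq_top_iff'.2 fun u => ?_
    by_cases hu : u = 0
    · exact hu ▸ W.zero_mem
    obtain ⟨g, hg⟩ := ht w u hw0 hu
    exact hg ▸ hW g w hw
  obtain ⟨v0, hv0⟩ := exists_ne (0 : V)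
  have hli : LinearIndependent (ZMod q) (fun i : Fin 1 => endHom ρ (1 : G) ^ (i : ℕ)) := by
    refine LinearIndependent.of_subsingleton (0 : Fin 1) ?_
    intro h
    rw [map_one, one_pow] at h
    exact hv0 (LinearMap.congr_fun h v0)
  obtain ⟨m, R, hm0, hm, hRirr, hRinj⟩ :=
    hL ρ hρ hq hirr 1 (Subgroup.center G).one_mem 1 hli
  rw [hn, mul_one] at hm
  have hm2 : m = 2 := by
    by_contra hne
    obtain rfl : m = 1 := by omega
    refine hnab fun x y => hRinj ?_
    rw [map_mul, map_mul]
    have hscal : ∀ f : Module.End ℂ (Fin 1 → ℂ), ∃ c : ℂ, f = c • 1 := fun f =>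
      ⟨f (Pi.single 0 1) 0, LinearMap.ext fun w => by
        have hw : w = w 0 • Pi.single 0 1 := by
          funext i; fin_cases i; simp
        funext i
        fin_cases i
        conv_lhs => rw [hw, map_smul]
        simp [mul_comm]⟩
    obtain ⟨c, hc⟩ := hscal (R x)
    obtain ⟨d, hd⟩ := hscal (R y)
    rw [hc, hd, smul_mul_assoc, one_mul, mul_smul_comm, mul_one, smul_comm]
  subst hm2
  have := hRirr
  have hf : ∀ g, R g = 1 → g = 1 := fun g hg => hRinj (hg.trans (map_one R).symm)
  have hab : ∀ g : G, g ∉ Subgroup.center G →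
      ∀ x ∈ Subgroup.centralizer {g}, ∀ y ∈ Subgroup.centralizer {g}, x * y = y * x :=
    fun g hg => (centralizer_facts R hf hg).1
  obtain ⟨hn3, hbound⟩ := index_center_bound (by
      by_contra! hall
      exact hnab fun x y => Subgroup.mem_center_iff.mp (hall y) x) hab
    (fun g hg => (centralizer_facts R hf hg).2) fun g hg hn => hg <| hcen _ hn
      ⟨⟨fun a b => Subtype.ext (hab g hg a a.2 b b.2)⟩⟩ g
      (Subgroup.mem_centralizer_singleton_iff.mpr rfl)
  set Z := Subgroup.center G with hZdef
  set i := Z.index with hi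
  have hGi : Nat.card Z * i = Nat.card G := Z.card_mul_index
  have hqi : ¬ q ∣ i := fun h => hq (h.trans ⟨Nat.card Z, by rw [← hGi, mul_comm]⟩)
  have hzq : Nat.card Z ≤ q - 1 :=
    Nat.le_of_dvd (by have := hqp.two_le; omega) (hdvdA Z inferInstance inferInstance)
  -- the stabiliser
  set c := Nat.card (stab ρ v) with hc
  have horb : Nat.card G = (q ^ 2 - 1) * c := by
    letI : MulAction G V := MulAction.compHom V ρ
    have horbset : MulAction.orbit G v = {0}ᶜ := by
      ext w
      constructor
      · rintro ⟨g, rfl⟩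
        exact fun h => hv ((ρ g).map_eq_zero_iff.1 h)
      · intro hw
        obtain ⟨g, hg⟩ := ht v w hv hw
        exact ⟨g, hg⟩
    have hstab : MulAction.stabilizer G v = stab ρ v := rfl
    have h1 : (MulAction.orbit G v).ncard = q ^ 2 - 1 := by
      rw [horbset, Set.ncard_compl, Set.ncard_singleton, card_eq_pow (q := q) (V := V), hn]
    rw [← h1, ← MulAction.index_stabilizer, hstab, hc, mul_comm, Subgroup.card_mul_index]
  have hks : Nat.card (ConjClasses (stab ρ v)) ≤ c :=
    Nat.card_le_card_of_surjective ConjClasses.mk ConjClasses.mk_surjective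
  have hc1 : c * (q + 1) ≤ i := by
    refine Nat.le_of_mul_le_mul_right (c := q - 1) ?_ (by have := hqp.two_le; omega)
    calc c * (q + 1) * (q - 1) = Nat.card G := by
          rw [horb, mul_assoc, ← Nat.sq_sub_sq, one_pow, mul_comm]
      _ = i * Nat.card Z := by rw [← hGi, mul_comm]
      _ ≤ i * (q - 1) := Nat.mul_le_mul_left _ hzq
  -- the bound on the class number
  have hk5 : ∀ B : ℕ, (∀ a, a ≤ 5 → a ∣ i → a ≤ B) →
      Nat.card (ConjClasses G) ≤ Nat.card Z * (1 + B) := by
    intro B hB
    refine card_classes_le B fun g hg => ?_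
    obtain ⟨a, ha5, hai, hag⟩ := hbound g hg
    rw [hag]
    exact Nat.mul_le_mul_left _ (hB a ha5 hai)
  rw [card_eq_pow (q := q) (V := V), hn]
  rcases Nat.lt_or_ge q 7 with hq7 | hq7
  · have hqc : q = 2 ∨ q = 3 ∨ q = 5 := by
      have h2 := hqp.two_le
      rcases (by omega : q = 2 ∨ q = 3 ∨ q = 4 ∨ q = 5 ∨ q = 6) with e | e | e | e | e <;>
        first | omega | (rw [e] at hqp; exact absurd hqp (by decide))
    rcases hqc with rfl | rfl | rfl
    · omega
    · omega
    · have hk4 := hk5 4 fun a ha5 hai => by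
        by_contra hlt
        obtain rfl : a = 5 := by omega
        exact hqi hai
      have hi24 : i ≤ 24 := by omega
      omega
  · have h6 := hk5 5 fun a ha5 _ => ha5
    have hc60 : c * 8 ≤ 60 := by
      have : c * 8 ≤ c * (q + 1) := Nat.mul_le_mul_left _ (by omega)
      omega
    have hqq : 7 * q ≤ q ^ 2 := by rw [pow_two]; exact Nat.mul_le_mul_right _ hq7
    omega

end Cfsg.Agent.Lib.TransKGV94
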