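import Cfsg.Agent.Lib.TransKGV94.Spec
import Cfsg.Agent.Lib.Chars.PrimitiveTwo

/-!
# Centraliser bound for groups with abelian centralisers and fusion at most two (helper6)
-/

set_option autoImplicit false

namespace Cfsg.Agent.Lib.TransKGV94.DimTwoAux

open Cfsg.Agent.Lib.Chars

universe u

/-- In the class equation with centre index twelve, twenty-four or sixty all parts are at most five. -/
theorem parts_le {ι : Type*} [Fintype ι] {n : ℕ} (hn : n = 12 ∨ n = 24 ∨ n = 60) (v : ι → ℕ × ℕ)
    (hv : ∀ i, 2 ≤ (v i).1 ∧ ((v i).2 = 1 ∨ (v i).2 = 2) ∧ (v i).2 * (v i).1 < n)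
    (h : 1 / (n : ℚ) + ∑ i, partTerm (v i) = 1) (i : ι) : (v i).1 ≤ 5 := by
  classical
  by_contra hi
  have hn12 : 12 ≤ n := by omega
  have hnq : (0 : ℚ) < 1 / (n : ℚ) := by positivity
  have hn12q : 1 / (n : ℚ) ≤ 1 / 12 :=
    one_div_le_one_div_of_le (by norm_num) (by exact_mod_cast hn12)
  have hlo : ∀ j, ((v j).2 = 1 → (1 / 2 : ℚ) ≤ partTerm (v j)) ∧ (1 / 4 : ℚ) ≤ partTerm (v j) := by
    intro j
    obtain ⟨h1, h2, -⟩ := hv j
    have h3 : (1 : ℚ) / ((v j).1 : ℚ) ≤ 1 / 2 :=
      one_div_le_one_div_of_le (by norm_num) (by exact_mod_cast h1)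
    unfold partTerm
    rcases h2 with e | e <;> rw [e] <;> push_cast <;> constructor <;> intros <;>
      first | linarith | simp_all
  rw [← Finset.add_sum_erase _ _ (Finset.mem_univ i)] at h
  set s := Finset.univ.erase i with hs
  have hR : ((s.card : ℚ)) * (1 / 4) ≤ ∑ j ∈ s, partTerm (v j) := by
    have := Finset.card_nsmul_le_sum s (fun j => partTerm (v j)) (1 / 4) fun j _ => (hlo j).2
    rwa [nsmul_eq_mul] at this
  obtain ⟨ha2, he, hlt⟩ := hv i
  have ha6 : 1 / ((v i).1 : ℚ) ≤ 1 / 6 :=
    one_div_le_one_div_of_le (by norm_num) (by exact_mod_cast (by omega : 6 ≤ (v i).1))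
  have hai : (0 : ℚ) < 1 / ((v i).1 : ℚ) :=
    one_div_pos.mpr (by exact_mod_cast (by omega : 0 < (v i).1))
  have heq_nat : ∀ x : ℕ, 0 < x → (1 : ℚ) / x = 1 / (n : ℚ) → x = n := fun x hx hxn => by
    rw [one_div, one_div, inv_inj] at hxn
    exact_mod_cast hxn
  rcases he with e1 | e2
  · have ht : partTerm (v i) = 1 - 1 / ((v i).1 : ℚ) := by rw [partTerm, e1]; simp
    rw [ht] at h
    have hc : s.card = 0 := by
      by_contra hc
      have : (1 : ℚ) ≤ s.card := by exact_mod_cast Nat.one_le_iff_ne_zero.2 hc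
      linarith
    rw [Finset.card_eq_zero.1 hc, Finset.sum_empty] at h
    have := heq_nat (v i).1 (by omega) (by linarith)
    rw [e1, one_mul] at hlt
    omega
  · have ht : partTerm (v i) = 1 / 2 - 1 / ((v i).1 : ℚ) / 2 := by
      rw [partTerm, e2]; push_cast; ring
    rw [ht] at h
    rw [e2] at hlt
    have hkey : 1 / (n : ℚ) < 1 / ((v i).1 : ℚ) / 2 := by
      have h1 : (1 : ℚ) / (n : ℚ) < 1 / ((2 * (v i).1 : ℕ) : ℚ) :=
        one_div_lt_one_div_of_lt (by exact_mod_cast (by omega : 0 < 2 * (v i).1)) (by exact_mod_cast hlt)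
      push_cast at h1
      rw [div_div, mul_comm]
      exact h1
    have hc : s.card = 1 ∨ s.card = 2 := by
      rcases Nat.eq_zero_or_pos s.card with hc | hc
      · exfalso
        rw [Finset.card_eq_zero.1 hc, Finset.sum_empty] at h
        linarith
      · by_contra hne
        have : (3 : ℚ) ≤ s.card := by exact_mod_cast (by omega : 3 ≤ s.card)
        linarith
    rcases hc with hc | hc
    · obtain ⟨j, hj⟩ := Finset.card_eq_one.1 hc
      rw [hj, Finset.sum_singleton] at h
      obtain ⟨b2, be, blt⟩ := hv j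
      unfold partTerm at h
      rcases be with f | f <;> rw [f] at h blt <;> push_cast at h
      · by_cases hb : (v j).1 = 2
        · rw [hb] at h
          push_cast at h
          linarith
        · have : 1 / ((v j).1 : ℚ) ≤ 1 / 3 :=
            one_div_le_one_div_of_le (by norm_num) (by exact_mod_cast (by omega : 3 ≤ (v j).1))
          linarith
      · have hbj : (0 : ℚ) < 1 / ((v j).1 : ℚ) :=
          one_div_pos.mpr (by exact_mod_cast (by omega : 0 < (v j).1))
        linarith
    · obtain ⟨j, k, hjk, hjk'⟩ := Finset.card_eq_two.1 hc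
      rw [hjk', Finset.sum_pair hjk] at h
      obtain ⟨j2, je, -⟩ := hv j
      obtain ⟨k2, ke, -⟩ := hv k
      rcases je with f | f
      · have := (hlo j).1 f
        have := (hlo k).2
        linarith
      rcases ke with f' | f'
      · have := (hlo k).1 f'
        have := (hlo j).2
        linarith
      unfold partTerm at h
      rw [f, f'] at h
      push_cast at h
      have h3 : ∀ x : ℕ, 3 ≤ x → 1 / (x : ℚ) ≤ 1 / 3 := fun x hx =>
        one_div_le_one_div_of_le (by norm_num) (by exact_mod_cast hx)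
      by_cases hj2 : (v j).1 = 2 <;> by_cases hk2 : (v k).1 = 2
      · rw [hj2, hk2] at h
        push_cast at h
        linarith
      · have := h3 _ (by omega : 3 ≤ (v k).1)
        rw [hj2] at h
        push_cast at h
        linarith
      · have := h3 _ (by omega : 3 ≤ (v j).1)
        rw [hk2] at h
        push_cast at h
        linarith
      · have := h3 _ (by omega : 3 ≤ (v k).1)
        have := h3 _ (by omega : 3 ≤ (v j).1)
        linarith

variable {G : Type u} [Group G]

theorem index_center_bound [Finite G] (hnc : ∃ g : G, g ∉ Subgroup.center G)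
    (hab : ∀ g : G, g ∉ Subgroup.center G →
      ∀ x ∈ Subgroup.centralizer {g}, ∀ y ∈ Subgroup.centralizer {g}, x * y = y * x)
    (hfus : ∀ g : G, g ∉ Subgroup.center G →
      Nat.card {x : G // x ∈ Subgroup.centralizer {g} ∧ ∃ y, y * g * y⁻¹ = x} ≤ 2)
    (hnn : ∀ g : G, g ∉ Subgroup.center G → ¬ (Subgroup.centralizer {g}).Normal) :
    ((Subgroup.center G).index = 12 ∨ (Subgroup.center G).index = 24 ∨
      (Subgroup.center G).index = 60) ∧
    ∀ g : G, g ∉ Subgroup.center G → ∃ a : ℕ, a ≤ 5 ∧ a ∣ (Subgroup.center G).index ∧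
      Nat.card (Subgroup.centralizer {g} : Subgroup G) = Nat.card (Subgroup.center G) * a := by
  classical
  cases nonempty_fintype G
  set Z := Subgroup.center G with hZdef
  have heq : ∀ g x : G, g ∉ Z → x ∈ Subgroup.centralizer {g} → x ∉ Z →
      Subgroup.centralizer {x} = Subgroup.centralizer {g} := by
    intro g x hg hx hxZ
    refine le_antisymm (fun y hy => ?_) fun y hy => ?_
    · have hgx : g ∈ Subgroup.centralizer {x} :=
        Subgroup.mem_centralizer_singleton_iff.mpr (Subgroup.mem_centralizer_singleton_iff.mp hx).symm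
      exact Subgroup.mem_centralizer_singleton_iff.mpr (hab x hxZ y hy g hgx)
    · exact Subgroup.mem_centralizer_singleton_iff.mpr (hab g hg y hy x hx)
  let T := {A : Subgroup G // ∃ g, g ∉ Z ∧ A = Subgroup.centralizer {g}}
  have : Fintype T := Fintype.ofFinite _
  have hmap : ∀ y g : G, (Subgroup.centralizer {g}).map (MulAut.conj y).toMonoidHom
      = Subgroup.centralizer {y * g * y⁻¹} := by
    intro y g
    ext x
    rw [Subgroup.mem_map_equiv, MulAut.conj_symm_apply, Subgroup.mem_centralizer_singleton_iff,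
      Subgroup.mem_centralizer_singleton_iff]
    constructor <;> intro h
    · calc x * (y * g * y⁻¹) = y * (y⁻¹ * x * y * g) * y⁻¹ := by group
        _ = y * (g * (y⁻¹ * x * y)) * y⁻¹ := by rw [h]
        _ = y * g * y⁻¹ * x := by group
    · calc y⁻¹ * x * y * g = y⁻¹ * (x * (y * g * y⁻¹)) * y := by group
        _ = y⁻¹ * (y * g * y⁻¹ * x) * y := by rw [h]
        _ = g * (y⁻¹ * x * y) := by group
  let act : MulAction G T :=
    { smul := fun y A => ⟨A.1.map (MulAut.conj y).toMonoidHom, by
        obtain ⟨g, hg, hA⟩ := A.2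
        refine ⟨y * g * y⁻¹, fun hz => hg ?_, by rw [hA, hmap]⟩
        have := (inferInstance : Z.Normal).conj_mem _ hz y⁻¹
        simpa [mul_assoc] using this⟩
      one_smul := fun A => Subtype.ext (by
        show A.1.map (MulAut.conj (1 : G)).toMonoidHom = A.1
        ext x; simp)
      mul_smul := fun y y' A => Subtype.ext (by
        show A.1.map (MulAut.conj (y * y')).toMonoidHom
          = (A.1.map (MulAut.conj y').toMonoidHom).map (MulAut.conj y).toMonoidHom
        rw [Subgroup.map_map]; congr 1; ext x; simp [mul_assoc]) }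
  have hsmul : ∀ (y : G) (A : T), (y • A : T).1 = A.1.map (MulAut.conj y).toMonoidHom :=
    fun _ _ => rfl
  have hZA : ∀ A : T, Z ≤ A.1 := by
    rintro ⟨_, g, hg, rfl⟩ z hz
    exact Subgroup.mem_centralizer_singleton_iff.mpr (Subgroup.mem_center_iff.mp hz g).symm
  let a : T → ℕ := fun A => Z.relIndex A.1
  have hcardA : ∀ A : T, Nat.card A.1 = Nat.card Z * a A := fun A => by
    have := (Z.subgroupOf A.1).card_mul_index
    rw [Nat.card_congr (Subgroup.subgroupOfEquivOfLe (hZA A)).toEquiv] at this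
    exact this.symm
  have hsplit : ∀ A : Subgroup G, Z ≤ A →
      Nat.card A = Nat.card Z + Nat.card {x : G // x ∈ A ∧ x ∉ Z} := by
    intro A hA
    rw [← Nat.card_sum]
    exact Nat.card_congr
      { toFun := fun x => if h : (x : G) ∈ Z then Sum.inl ⟨x, h⟩ else Sum.inr ⟨x, x.2, h⟩
        invFun := Sum.elim (fun z => ⟨z, hA z.2⟩) (fun x => ⟨x, x.2.1⟩)
        left_inv := fun x => by by_cases h : (x : G) ∈ Z <;> simp [h]
        right_inv := fun s => by
          rcases s with z | x
          · simp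
          · simp [x.2.2] }
  -- the noncentral elements are partitioned
  have hpart : Nat.card {x : G // x ∈ (⊤ : Subgroup G) ∧ x ∉ Z}
      = ∑ A : T, Nat.card {x : G // x ∈ A.1 ∧ x ∉ Z} := by
    rw [← Nat.card_sigma]
    refine Nat.card_congr
      { toFun := fun x => ⟨⟨Subgroup.centralizer {x.1}, x.1, x.2.2, rfl⟩, x.1,
          Subgroup.mem_centralizer_singleton_iff.mpr rfl, x.2.2⟩
        invFun := fun s => ⟨s.2.1, trivial, s.2.2.2⟩
        left_inv := fun x => rfl
        right_inv := ?_ }
    rintro ⟨⟨A, g, hg, rfl⟩, x, hx, hxZ⟩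
    refine Sigma.subtype_ext (Subtype.ext (heq g x hg hx hxZ)) rfl
  set n := Z.index with hn
  have hZpos : (Nat.card Z : ℚ) ≠ 0 := Nat.cast_ne_zero.mpr Nat.card_pos.ne'
  have hn2 : 2 ≤ n := by
    rcases (by have := Z.index_ne_zero_of_finite; omega : n = 1 ∨ 2 ≤ n) with h | h
    · obtain ⟨g, hg⟩ := hnc
      exact absurd (Subgroup.index_eq_one.mp h ▸ Subgroup.mem_top g) hg
    · exact h
  have hcount : (n : ℚ) - 1 = ∑ A : T, ((a A : ℚ) - 1) := by
    have h1 : ∀ A : T, (Nat.card {x : G // x ∈ A.1 ∧ x ∉ Z} : ℚ)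
        = (Nat.card Z : ℚ) * ((a A : ℚ) - 1) := fun A => by
      have h := hsplit A.1 (hZA A)
      rw [hcardA A] at h
      have h' : (Nat.card Z : ℚ) * (a A : ℚ) = (Nat.card Z : ℚ) +
          (Nat.card {x : G // x ∈ A.1 ∧ x ∉ Z} : ℚ) := by exact_mod_cast h
      linear_combination -h'
    have h2 := hsplit ⊤ le_top
    rw [Subgroup.card_top, ← Z.card_mul_index, hpart] at h2
    have h2' : (Nat.card Z : ℚ) * (n : ℚ) = (Nat.card Z : ℚ) +
        ∑ A : T, (Nat.card {x : G // x ∈ A.1 ∧ x ∉ Z} : ℚ) := by exact_mod_cast h2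
    rw [Finset.sum_congr rfl fun A _ => h1 A, ← Finset.mul_sum] at h2'
    exact mul_left_cancel₀ hZpos (by linear_combination h2')
  -- orbits
  let Ω := MulAction.orbitRel.Quotient G T
  have : Fintype Ω := Fintype.ofFinite _
  have hle : ∀ A : T, A.1 ≤ MulAction.stabilizer G A := by
    intro A y hy
    refine Subtype.ext ?_
    rw [hsmul]
    obtain ⟨g, hg, hA⟩ := A.2
    rw [hA] at hy ⊢
    rw [hmap, Subgroup.mem_centralizer_singleton_iff.mp hy, mul_inv_cancel_right]
  let e : T → ℕ := fun A => A.1.relIndex (MulAction.stabilizer G A)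
  have he : ∀ A : T, (e A = 1 ∨ e A = 2) ∧ e A * a A < n ∧ 2 ≤ a A ∧
      Nat.card (MulAction.orbit G A) * (e A * a A) = n := by
    intro A
    obtain ⟨g, hg, hA⟩ := A.2
    set S := MulAction.stabilizer G A with hS
    have hpos : e A ≠ 0 := Subgroup.index_ne_zero_of_finite
    have hle2 : e A ≤ 2 := by
      refine le_trans ?_ (hfus g hg)
      have hmem : ∀ y : S, (y : G) * g * (y : G)⁻¹ ∈ Subgroup.centralizer {g} := by
        intro y
        have h1 : A.1.map (MulAut.conj (y : G)).toMonoidHom = A.1 := congrArg Subtype.val y.2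
        rw [← hA, ← h1]
        refine ⟨g, ?_, by simp⟩
        rw [hA]; exact Subgroup.mem_centralizer_singleton_iff.mpr rfl
      refine Nat.card_le_card_of_injective (fun q : S ⧸ A.1.subgroupOf S =>
        Quotient.liftOn' q (fun y => (⟨(y : G) * g * (y : G)⁻¹, hmem y, _, rfl⟩ :
          {x : G // x ∈ Subgroup.centralizer {g} ∧ ∃ y, y * g * y⁻¹ = x})) ?_) ?_
      · intro y y' hyy
        rw [QuotientGroup.leftRel_apply, Subgroup.mem_subgroupOf, hA,
          Subgroup.mem_centralizer_singleton_iff] at hyy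
        apply Subtype.ext
        simp only [Subgroup.coe_mul, Subgroup.coe_inv] at hyy
        calc (y : G) * g * (y : G)⁻¹ = y * (g * ((y : G)⁻¹ * y')) * (y' : G)⁻¹ := by group
          _ = y * ((y : G)⁻¹ * y' * g) * (y' : G)⁻¹ := by rw [hyy]
          _ = y' * g * (y' : G)⁻¹ := by group
      · intro q q' hqq
        induction q using QuotientGroup.induction_on with
        | _ y => ?_
        induction q' using QuotientGroup.induction_on with
        | _ y' => ?_
        have h1 : (y : G) * g * (y : G)⁻¹ = y' * g * (y' : G)⁻¹ := congrArg Subtype.val hqq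
        rw [QuotientGroup.eq, Subgroup.mem_subgroupOf, hA, Subgroup.mem_centralizer_singleton_iff]
        simp only [Subgroup.coe_mul, Subgroup.coe_inv]
        calc (y : G)⁻¹ * y' * g = (y : G)⁻¹ * (y' * g * (y' : G)⁻¹) * y' := by group
          _ = (y : G)⁻¹ * (y * g * (y : G)⁻¹) * y' := by rw [h1]
          _ = g * ((y : G)⁻¹ * y') := by group
    have hcardS : Nat.card S = Nat.card Z * (e A * a A) := by
      have := (A.1.subgroupOf S).card_mul_index
      rw [Nat.card_congr (Subgroup.subgroupOfEquivOfLe (hle A)).toEquiv, hcardA] at this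
      rw [← this]
      show Nat.card Z * a A * A.1.relIndex S = Nat.card Z * (A.1.relIndex S * a A)
      ring
    have horb : Nat.card (MulAction.orbit G A) * (e A * a A) = n := by
      have h1 : Nat.card (MulAction.orbit G A) = S.index := by
        rw [Nat.card_coe_set_eq]; exact (MulAction.index_stabilizer G A).symm
      have h2 := S.card_mul_index
      rw [hcardS, ← Z.card_mul_index, ← h1, mul_assoc, mul_comm (e A * a A)] at h2
      exact Nat.eq_of_mul_eq_mul_left Nat.card_pos h2
    refine ⟨by omega, ?_, ?_, horb⟩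
    · refine lt_of_le_of_ne (Nat.le_of_dvd (by omega) ⟨_, (mul_comm _ _).trans horb |>.symm⟩)
        fun heq => hnn g hg ?_
      have hone : Nat.card (MulAction.orbit G A) = 1 := by
        rw [heq] at horb
        exact mul_right_cancel₀ (by omega : n ≠ 0) (horb.trans (one_mul n).symm)
      refine ⟨fun x hx y => ?_⟩
      have hfix : y • A = A := by
        have hss : Subsingleton (MulAction.orbit G A) := (Nat.card_eq_one_iff_unique.mp hone).1
        exact congrArg Subtype.val (Subsingleton.elim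
          (⟨y • A, MulAction.mem_orbit A y⟩ : MulAction.orbit G A) ⟨A, MulAction.mem_orbit_self A⟩)
      rw [← hA] at hx ⊢
      rw [← congrArg Subtype.val hfix, hsmul]
      exact ⟨x, hx, rfl⟩
    · have h0 : a A ≠ 0 := Subgroup.index_ne_zero_of_finite
      have h1 : a A ≠ 1 := fun h1 => hg (Subgroup.relIndex_eq_one.mp h1 (by
        rw [hA]; exact Subgroup.mem_centralizer_singleton_iff.mpr rfl))
      omega
  have hconst : ∀ (y : G) (A : T), a (y • A) = a A := by
    intro y A
    have h1 := hcardA (y • A)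
    rw [hsmul, Nat.card_congr (Subgroup.equivMapOfInjective _ _
      (MulAut.conj y).injective).toEquiv.symm, hcardA] at h1
    exact (Nat.eq_of_mul_eq_mul_left Nat.card_pos h1).symm
  have hsum : ∑ A : T, ((a A : ℚ) - 1)
      = (n : ℚ) * ∑ ω : Ω, partTerm (a ω.out, e ω.out) := by
    have : ∀ ω : Ω, Fintype (MulAction.orbit G ω.out) := fun ω => Fintype.ofFinite _
    rw [Fintype.sum_equiv (MulAction.selfEquivSigmaOrbits G T) (fun A : T => ((a A : ℚ) - 1))
      (fun s => ((a s.1.out : ℚ) - 1)) (fun A => ?_), Fintype.sum_sigma, Finset.mul_sum]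
    · refine Finset.sum_congr rfl fun ω _ => ?_
      show ∑ _y : MulAction.orbit G ω.out, ((a ω.out : ℚ) - 1) = _
      rw [Finset.sum_const, Finset.card_univ, nsmul_eq_mul, Fintype.card_eq_nat_card]
      obtain ⟨h1, -, h3, h4⟩ := he ω.out
      have h4' : (Nat.card (MulAction.orbit G ω.out) : ℚ) * ((e ω.out : ℚ) * (a ω.out : ℚ)) = n := by
        exact_mod_cast h4
      have ha0 : (a ω.out : ℚ) ≠ 0 := by exact_mod_cast (by omega : a ω.out ≠ 0)
      have he0 : (e ω.out : ℚ) ≠ 0 := by exact_mod_cast (by omega : e ω.out ≠ 0)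
      rw [← h4', partTerm]
      field_simp
    · have hmem : A ∈ MulAction.orbit G (Quotient.mk (MulAction.orbitRel G T) A).out := by
        rw [MulAction.mem_orbit_symm, ← MulAction.orbitRel_apply]
        exact Quotient.mk_out A
      obtain ⟨y, hy⟩ := hmem
      have hy' : y • (Quotient.mk (MulAction.orbitRel G T) A).out = A := hy
      show ((a A : ℚ) - 1) = (a (Quotient.mk (MulAction.orbitRel G T) A).out : ℚ) - 1
      conv_lhs => rw [← hy', hconst]
  have hnq : (n : ℚ) ≠ 0 := by exact_mod_cast (by omega : n ≠ 0)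
  have heqn : 1 / (n : ℚ) + ∑ ω : Ω, partTerm (a ω.out, e ω.out) = 1 := by
    rw [hsum] at hcount
    field_simp
    linarith
  have hv : ∀ ω : Ω, 2 ≤ a ω.out ∧ (e ω.out = 1 ∨ e ω.out = 2) ∧ e ω.out * a ω.out < n :=
    fun ω => ⟨(he _).2.2.1, (he _).1, (he _).2.1⟩
  have hn3 := parts_eq hn2 (fun ω : Ω => (a ω.out, e ω.out)) hv heqn
  refine ⟨hn3, fun g hg => ?_⟩
  let A : T := ⟨Subgroup.centralizer {g}, g, hg, rfl⟩
  refine ⟨a A, ?_, ⟨Nat.card (MulAction.orbit G A) * e A, ?_⟩, hcardA A⟩
  · obtain ⟨y, hy⟩ := MulAction.orbitRel_apply.1 (Quotient.mk_out (s := MulAction.orbitRel G T) A)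
    have hy' : y • A = (Quotient.mk (MulAction.orbitRel G T) A).out := hy
    have := parts_le hn3 (fun ω : Ω => (a ω.out, e ω.out)) hv heqn (Quotient.mk _ A)
    rw [← hconst y A, hy']
    exact this
  · have := (he A).2.2.2
    rw [mul_comm (a A), mul_assoc, mul_comm (e A)]
    rw [← this]
    ring

end Cfsg.Agent.Lib.TransKGV94.DimTwoAux
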