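import Cfsg.Agent.Lib.TransKGV94.Spec
import Cfsg.Agent.Lib.Wielandt.Lift
import Cfsg.Agent.Lib.Chars.Basic

/-!
# Piece L: lifting a coprime irreducible representation to characteristic zero

The representation is lifted modulo every power of `q`; a limit in the compact ring of `q`-adic
integers gives a representation over `ℤ_[q]`, which is carried into `ℂ`.
-/

set_option autoImplicit false

namespace Cfsg.Agent.Lib.TransKGV94.Lift

open Matrix Filter Topology Module
open scoped Cardinal

universe u v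

variable {q : ℕ} [hq : Fact q.Prime]

/-- The `q`-adic numbers have an embedding into `ℂ`. -/
theorem exists_padic_hom : ∃ φ : ℤ_[q] →+* ℂ, Function.Injective φ := by
  have hup : #(ℚ_[q]) ≤ 𝔠 := by
    refine le_trans (Cardinal.mk_le_of_surjective (f := (Quotient.mk'' : PadicSeq q → ℚ_[q]))
      Quotient.mk''_surjective) ?_
    refine le_trans (Cardinal.mk_le_of_injective (f := fun (f : PadicSeq q) (i : ℕ) => f i)
      (fun a b h => CauSeq.ext (congrFun h))) ?_
    simp
  have hlo : 𝔠 ≤ #(ℚ_[q]) := continuum_le_cardinal_of_nontriviallyNormedField ℚ_[q]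
  have hK : #(AlgebraicClosure ℚ_[q]) = 𝔠 := by
    refine le_antisymm ?_ ?_
    · refine le_trans (Algebra.IsAlgebraic.cardinalMk_le_max ℚ_[q] (AlgebraicClosure ℚ_[q])) ?_
      exact max_le hup Cardinal.aleph0_le_continuum
    · exact hlo.trans (Cardinal.mk_le_of_injective
        (FaithfulSMul.algebraMap_injective ℚ_[q] (AlgebraicClosure ℚ_[q])))
  have : CharZero (AlgebraicClosure ℚ_[q]) :=
    charZero_of_injective_algebraMap
      (FaithfulSMul.algebraMap_injective ℚ_[q] (AlgebraicClosure ℚ_[q]))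
  obtain ⟨e⟩ := IsAlgClosed.ringEquiv_of_equiv_of_charZero (K := AlgebraicClosure ℚ_[q]) (L := ℂ)
    (by rw [hK]; exact Cardinal.aleph0_lt_continuum)
    (Cardinal.eq.1 (by rw [hK, Cardinal.mk_complex]))
  refine ⟨e.toRingHom.comp ((algebraMap ℚ_[q] (AlgebraicClosure ℚ_[q])).comp
    PadicInt.Coe.ringHom), ?_⟩
  exact e.injective.comp
    ((FaithfulSMul.algebraMap_injective ℚ_[q] (AlgebraicClosure ℚ_[q])).comp
      (Subtype.coe_injective (p := fun x : ℚ_[q] => ‖x‖ ≤ 1)))

theorem toZMod_eq_of_norm {x y : ℤ_[q]} (h : ‖x - y‖ < 1) :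
    PadicInt.toZMod x = PadicInt.toZMod y := by
  obtain ⟨z, hz⟩ := (PadicInt.norm_lt_one_iff_dvd _).1 h
  rw [← sub_eq_zero, ← map_sub, hz, map_mul, map_natCast, ZMod.natCast_self, zero_mul]

theorem isUnit_of_toZMod_ne_zero {x : ℤ_[q]} (h : PadicInt.toZMod x ≠ 0) : IsUnit x := by
  rw [PadicInt.isUnit_iff]
  by_contra hne
  refine h ?_
  rw [toZMod_eq_of_norm (y := 0) (by simpa using lt_of_le_of_ne (PadicInt.norm_le_one x) hne),
    map_zero]

theorem isUnit_of_reduce {n : Type*} [Fintype n] [DecidableEq n] {A : Matrix n n ℤ_[q]}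
    (hA : IsUnit (A.map PadicInt.toZMod)) : IsUnit A := by
  rw [isUnit_iff_isUnit_det] at hA ⊢
  refine isUnit_of_toZMod_ne_zero ?_
  rw [RingHom.map_det]
  exact hA.ne_zero

/-- A representation of a `q'`-group lifts to the `q`-adic integers. -/
theorem exists_padic_lift {n : Type*} [Fintype n] [DecidableEq n] {G : Type u} [Group G] [Finite G]
    (hG : ¬ q ∣ Nat.card G) (ρ : G →* Matrix n n (ZMod q)) :
    ∃ R : G →* Matrix n n ℤ_[q], ∀ g, (R g).map PadicInt.toZMod = ρ g := by
  classical
  choose s hs using fun N : ℕ => Cfsg.Agent.Lib.Wielandt.exists_lift (q := q) (N := N) hG ρ.toHomUnits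
  set u : ℕ → G → n → n → ℤ_[q] := fun N g i j =>
    (((s N g : Matrix n n (ZMod (q ^ (N + 1)))) i j).val : ℤ_[q]) with hu
  have hpow : ∀ N g i j, PadicInt.toZModPow (N + 1) (u N g i j) =
      (s N g : Matrix n n (ZMod (q ^ (N + 1)))) i j := fun N g i j => by
    simp only [hu, map_natCast, ZMod.natCast_zmod_val]
  have hmod : ∀ N g i j, PadicInt.toZMod (u N g i j) = ρ g i j := by
    intro N g i j
    have h : (Cfsg.Agent.Lib.Wielandt.redGL q N n (s N g) : Matrix n n (ZMod q)) i j = ρ g i j := by
      rw [hs N g, MonoidHom.coe_toHomUnits]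
    rw [← h]
    simp only [hu, map_natCast]
    rw [← map_natCast (Cfsg.Agent.Lib.Wielandt.redHom q N)]
    exact congrArg _ (ZMod.natCast_zmod_val _)
  obtain ⟨R, φ, hφ, hlim⟩ := CompactSpace.tendsto_subseq u
  have hcont : ∀ g i j, Tendsto (fun N => u (φ N) g i j) atTop (𝓝 (R g i j)) := fun g i j => by
    have h1 := tendsto_pi_nhds.1 hlim g
    exact tendsto_pi_nhds.1 (tendsto_pi_nhds.1 h1 i) j
  have hred : ∀ g, (Matrix.of (R g)).map PadicInt.toZMod = ρ g := by
    intro g
    ext i j
    obtain ⟨N, hN⟩ := ((Metric.tendsto_nhds.1 (hcont g i j)) 1 one_pos).exists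
    show PadicInt.toZMod (R g i j) = ρ g i j
    rw [← hmod (φ N) g i j]
    exact (toZMod_eq_of_norm (by rwa [← dist_eq_norm])).symm
  have hmul : ∀ g h, Matrix.of (R (g * h)) = Matrix.of (R g) * Matrix.of (R h) := by
    intro g h
    ext i j
    set D : ℕ → ℤ_[q] := fun N => u N (g * h) i j - ∑ k, u N g i k * u N h k j with hD
    have hzero : ∀ N, ‖D N‖ ≤ (q : ℝ) ^ (-((N + 1 : ℕ) : ℤ)) := by
      intro N
      rw [PadicInt.norm_le_pow_iff_mem_span_pow, ← PadicInt.ker_toZModPow, RingHom.mem_ker]
      simp only [hD, map_sub, map_sum, map_mul, hpow]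
      rw [sub_eq_zero, Units.val_mul, Matrix.mul_apply]
    have h1 : Tendsto (fun N => D (φ N)) atTop
        (𝓝 (R (g * h) i j - ∑ k, R g i k * R h k j)) :=
      (hcont _ i j).sub (tendsto_finsetSum _ fun k _ => (hcont g i k).mul (hcont h k j))
    have h2 : Tendsto (fun N => D (φ N)) atTop (𝓝 0) := by
      refine squeeze_zero_norm (fun N => (hzero (φ N)).trans (le_of_eq ?_))
        ((tendsto_pow_atTop_nhds_zero_of_lt_one (r := ((q : ℝ))⁻¹) (by positivity)
          (inv_lt_one_of_one_lt₀ (by exact_mod_cast hq.out.one_lt))).comp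
          ((tendsto_add_atTop_nat 1).comp hφ.tendsto_atTop))
      rw [_root_.zpow_neg, zpow_natCast, Function.comp_apply, Function.comp_apply, inv_pow]
    have h3 := tendsto_nhds_unique h1 h2
    rw [sub_eq_zero] at h3
    simpa [Matrix.mul_apply] using h3
  have h1 : Matrix.of (R 1) = 1 := by
    have hu1 : IsUnit (Matrix.of (R 1)) := isUnit_of_reduce (by rw [hred, map_one]; exact isUnit_one)
    refine hu1.mul_left_cancel ?_
    rw [← hmul, one_mul, mul_one]
  exact ⟨⟨⟨fun g => Matrix.of (R g), h1⟩, hmul⟩, hred⟩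

/-- Linear independence survives lifting. -/
theorem linearIndependent_of_reduce {M : Type*} [Fintype M] {ι : Type*} [Fintype ι] [DecidableEq ι]
    (φ : ℤ_[q] →+* ℂ) (w : ι → M → ℤ_[q])
    (hw : LinearIndependent (ZMod q) fun i m => PadicInt.toZMod (w i m)) :
    LinearIndependent ℂ fun i m => φ (w i m) := by
  classical
  obtain ⟨Φ, hΦ⟩ := LinearMap.exists_leftInverse_of_injective
    (Fintype.linearCombination (ZMod q) fun i m => PadicInt.toZMod (w i m))
    (LinearMap.ker_eq_bot'.2 fun c hc => funext fun i =>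
      Fintype.linearIndependent_iff.1 hw c ((Fintype.linearCombination_apply _ _ _).symm.trans hc) i)
  choose l hl using fun (i : ι) (m : M) =>
    ZMod.ringHom_surjective (PadicInt.toZMod (p := q)) (Φ (Pi.single m 1) i)
  let P : Matrix ι ι ℤ_[q] := Matrix.of fun i j => ∑ m, l i m * w j m
  have hP : P.map PadicInt.toZMod = 1 := by
    ext i j
    have h := congrFun (LinearMap.congr_fun hΦ (Pi.single j 1)) i
    rw [LinearMap.comp_apply, Fintype.linearCombination_apply_single, one_smul,
      LinearMap.id_apply] at h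
    rw [Matrix.map_apply, Matrix.one_apply]
    have hv : (fun m => PadicInt.toZMod (w j m)) =
        ∑ m, PadicInt.toZMod (w j m) • (Pi.single m 1 : M → ZMod q) := by
      ext m; simp [Finset.sum_apply, Pi.single_apply]
    rw [hv] at h
    simp only [P, Matrix.of_apply, map_sum, map_mul, hl]
    rw [Pi.single_apply] at h
    rw [← h, map_sum, Finset.sum_apply]
    refine Finset.sum_congr rfl fun m _ => ?_
    rw [map_smul, Pi.smul_apply, smul_eq_mul, mul_comm]
  have hPu : IsUnit (P.map φ) := by
    have : IsUnit P := isUnit_of_reduce (by rw [hP]; exact isUnit_one)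
    exact this.map φ.mapMatrix
  rw [Fintype.linearIndependent_iff]
  intro c hc
  have h0 : (P.map φ) *ᵥ c = 0 := by
    ext i
    simp only [Matrix.mulVec, dotProduct, P, Matrix.map_apply, Matrix.of_apply, map_sum, map_mul,
      Finset.sum_mul, Pi.zero_apply]
    rw [Finset.sum_comm]
    refine Finset.sum_eq_zero fun m _ => ?_
    have hm := congrFun hc m
    simp only [Finset.sum_apply, Pi.smul_apply, smul_eq_mul, Pi.zero_apply] at hm
    calc ∑ j, φ (l i m) * φ (w j m) * c j = φ (l i m) * ∑ j, c j * φ (w j m) := by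
          rw [Finset.mul_sum]; exact Finset.sum_congr rfl fun j _ => by ring
      _ = 0 := by rw [hm, mul_zero]
  intro i
  have hinj := Matrix.mulVec_injective_of_isUnit hPu
  exact congrFun (hinj (h0.trans (Matrix.mulVec_zero _).symm)) i

/-- The fixed space of a subgroup with no fixed vectors modulo `q` vanishes in characteristic
zero. -/
theorem fixed_eq_zero {n : Type*} [Fintype n] [DecidableEq n] {G : Type u} [Group G] [Finite G]
    (hG : ¬ q ∣ Nat.card G) (R : G →* Matrix n n ℤ_[q]) (φ : ℤ_[q] →+* ℂ) (K : Subgroup G)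
    (hK : ∀ x : n → ZMod q, (∀ k ∈ K, (R k).map PadicInt.toZMod *ᵥ x = x) → x = 0)
    (v : n → ℂ) (hv : ∀ k ∈ K, (R k).map φ *ᵥ v = v) : v = 0 := by
  classical
  have := Fintype.ofFinite K
  set S : Matrix n n ℤ_[q] := ∑ k : K, R (k : G) with hS
  have habs : ∀ k : K, R (k : G) * S = S := fun k => by
    rw [hS, Finset.mul_sum]
    exact Fintype.sum_equiv (Equiv.mulLeft k) _ _ fun x => by simp
  have hsq : S * S = (Nat.card K : ℤ_[q]) • S := by
    conv_lhs => arg 1; rw [hS]
    rw [Finset.sum_mul, Finset.sum_congr rfl (fun k _ => habs k), Finset.sum_const,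
      Finset.card_univ, ← Nat.card_eq_fintype_card, Nat.cast_smul_eq_nsmul]
  have hred0 : S.map PadicInt.toZMod = 0 := by
    refine Matrix.ext_iff_mulVec.2 fun x => ?_
    rw [Matrix.zero_mulVec]
    refine hK _ fun k hk => ?_
    rw [Matrix.mulVec_mulVec, ← Matrix.map_mul, habs ⟨k, hk⟩]
  have hS0 : S = 0 := by
    have hu : IsUnit ((Nat.card K : ℤ_[q]) • (1 : Matrix n n ℤ_[q]) - S) := by
      refine isUnit_of_reduce ?_
      have hmap : ((Nat.card K : ℤ_[q]) • (1 : Matrix n n ℤ_[q]) - S).map PadicInt.toZMod =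
          (Nat.card K : ZMod q) • 1 := by
        rw [Matrix.map_sub _ (map_sub PadicInt.toZMod), hred0, sub_zero]
        ext i j
        by_cases h : i = j <;> simp [h]
      rw [hmap, ← Algebra.algebraMap_eq_smul_one]
      refine (isUnit_iff_ne_zero.2 ?_).map _
      rw [Ne, ZMod.natCast_eq_zero_iff]
      exact fun h => hG (h.trans (Subgroup.card_subgroup_dvd_card K))
    refine hu.mul_right_eq_zero.1 ?_
    rw [sub_mul, hsq, smul_mul_assoc, one_mul, sub_self]
  have h1 : (S.map φ) *ᵥ v = (Nat.card K : ℂ) • v := by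
    have : S.map φ = ∑ k : K, (R (k : G)).map φ := by
      rw [hS]; exact map_sum φ.mapMatrix _ _
    rw [this, Matrix.sum_mulVec, Finset.sum_congr rfl (fun (k : K) _ => hv (k : G) k.2), Finset.sum_const,
      Finset.card_univ, ← Nat.card_eq_fintype_card, Nat.cast_smul_eq_nsmul]
  rw [hS0, Matrix.map_zero _ (map_zero φ), Matrix.zero_mulVec] at h1
  exact (smul_eq_zero.1 h1.symm).resolve_left (Nat.cast_ne_zero.2 Nat.card_pos.ne')

/-- An endomorphism of finite order with `d` independent powers has an eigenspace of dimension at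
most `n / d`. -/
theorem exists_eigenspace {E : Type*} [AddCommGroup E] [Module ℂ E] [FiniteDimensional ℂ E]
    (f : Module.End ℂ E) {k : ℕ} (hk : k ≠ 0) (hf : f ^ k = 1) (d : ℕ) (hd : 0 < finrank ℂ E)
    (hli : LinearIndependent ℂ fun i : Fin d => f ^ (i : ℕ)) :
    ∃ μ : ℂ, f.eigenspace μ ≠ ⊥ ∧ finrank ℂ (f.eigenspace μ) * d ≤ finrank ℂ E := by
  classical
  have : Nontrivial E := Module.finrank_pos_iff.1 hd
  set r := (minpoly ℂ f).roots.toFinset with hr
  have hint : IsIntegral ℂ f := Algebra.IsIntegral.isIntegral f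
  have hne : minpoly ℂ f ≠ 0 := minpoly.ne_zero hint
  have hsep : (minpoly ℂ f).Separable := by
    refine (Polynomial.separable_X_pow_sub_C (1 : ℂ) (Nat.cast_ne_zero.2 hk) one_ne_zero).of_dvd ?_
    refine minpoly.dvd ℂ f ?_
    rw [map_sub, map_pow, Polynomial.aeval_X, Polynomial.aeval_C, map_one, hf, sub_self]
  have hcard : d ≤ r.card := by
    rw [hr, Multiset.toFinset_card_of_nodup (Polynomial.nodup_roots hsep),
      IsAlgClosed.card_roots_eq_natDegree]
    by_contra hlt
    rw [not_le] at hlt
    have h0 := minpoly.aeval ℂ f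
    rw [Polynomial.aeval_eq_sum_range' (n := d) hlt, Finset.sum_range fun i =>
      (minpoly ℂ f).coeff i • f ^ i] at h0
    have := Fintype.linearIndependent_iff.1 hli _ h0 ⟨(minpoly ℂ f).natDegree, hlt⟩
    exact hne (Polynomial.leadingCoeff_eq_zero.1 this)
  have hrne : r.Nonempty := by
    have hdeg : 0 < (minpoly ℂ f).natDegree := minpoly.natDegree_pos hint
    rw [← Finset.card_pos, hr, Multiset.toFinset_card_of_nodup (Polynomial.nodup_roots hsep),
      IsAlgClosed.card_roots_eq_natDegree]
    exact hdeg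
  have hsum : ∑ μ ∈ r, finrank ℂ (f.eigenspace μ) ≤ finrank ℂ E := by
    have hind : iSupIndep fun μ : r => f.eigenspace μ :=
      (f.eigenspaces_iSupIndep).comp Subtype.coe_injective
    calc ∑ μ ∈ r, finrank ℂ (f.eigenspace μ) = ∑ μ : r, finrank ℂ (f.eigenspace μ) :=
          (Finset.sum_coe_sort r fun μ => finrank ℂ (f.eigenspace μ)).symm
      _ = finrank ℂ (DirectSum r fun μ => f.eigenspace μ) := (Module.finrank_directSum ℂ _).symm
      _ ≤ finrank ℂ E := LinearMap.finrank_le_finrank_of_injective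
          (iSupIndep.dfinsupp_lsum_injective hind)
  obtain ⟨μ, hμ, hmin⟩ := r.exists_min_image (fun μ => finrank ℂ (f.eigenspace μ)) hrne
  refine ⟨μ, ?_, ?_⟩
  · rw [hr, Multiset.mem_toFinset, Polynomial.mem_roots hne] at hμ
    exact Module.End.hasEigenvalue_iff.1 (Module.End.hasEigenvalue_of_isRoot hμ)
  · calc finrank ℂ (f.eigenspace μ) * d ≤ finrank ℂ (f.eigenspace μ) * r.card :=
          Nat.mul_le_mul_left _ hcard
      _ ≤ ∑ ν ∈ r, finrank ℂ (f.eigenspace ν) := by
          rw [mul_comm, ← smul_eq_mul]; exact Finset.card_nsmul_le_sum _ _ _ hmin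
      _ ≤ finrank ℂ E := hsum

end Cfsg.Agent.Lib.TransKGV94.Lift

namespace Cfsg.Agent.Lib.TransKGV94

open Matrix Module
open Cfsg.Agent.Lib.SolvLinear

universe u v

theorem lift : LiftStmt.{u, v} := by
  intro q _ V _ _ _ _ G _ _ ρ hρ hG hirr z hz d hli
  classical
  set n := finrank (ZMod q) V with hn
  let b : Basis (Fin n) (ZMod q) V := finBasis (ZMod q) V
  let T := LinearMap.toMatrixAlgEquiv b
  let ρm : G →* Matrix (Fin n) (Fin n) (ZMod q) := T.toMonoidHom.comp (endHom ρ)
  obtain ⟨R, hR⟩ := Lift.exists_padic_lift hG ρm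
  obtain ⟨φ, -⟩ := Lift.exists_padic_hom (q := q)
  let Rc : G →* Matrix (Fin n) (Fin n) ℂ := φ.mapMatrix.toMonoidHom.comp R
  let σ : Representation ℂ G (Fin n → ℂ) := (Matrix.toLinAlgEquiv').toMonoidHom.comp Rc
  have hσ : ∀ g w, σ g w = (R g).map φ *ᵥ w := fun g w => rfl
  have hn0 : 0 < n := Module.finrank_pos
  -- no fixed vectors for nontrivial normal subgroups
  have hfix : ∀ (K : Subgroup G) [K.Normal], K ≠ ⊥ → ∀ w, (∀ k ∈ K, σ k w = w) → w = 0 := by
    intro K _ hK w hw
    refine Lift.fixed_eq_zero hG R φ K (fun x hx => ?_) w hw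
    let W : Submodule (ZMod q) V :=
      { carrier := {a | ∀ k ∈ K, ρ k a = a}
        zero_mem' := fun k _ => map_zero _
        add_mem' := fun {a c} ha hc k hk => by rw [map_add, ha k hk, hc k hk]
        smul_mem' := fun c a ha k hk => by rw [map_smul, ha k hk] }
    have hxW : b.equivFun.symm x ∈ W := by
      intro k hk
      have h := hx k hk
      rw [hR] at h
      apply b.equivFun.injective
      rw [LinearEquiv.apply_symm_apply]
      conv_rhs => rw [← h]
      show _ = LinearMap.toMatrixAlgEquiv b (endHom ρ k) *ᵥ x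
      conv_rhs => rw [← b.equivFun.apply_symm_apply x]
      exact (LinearMap.toMatrix_mulVec_repr b b (endHom ρ k) _).symm
    rcases hirr W (fun g a ha k hk => by
      have h := ha (g⁻¹ * k * g) (by simpa using Subgroup.Normal.conj_mem ‹_› k hk g⁻¹)
      calc ρ k (ρ g a) = ρ (k * g) a := by rw [map_mul]; rfl
        _ = ρ (g * (g⁻¹ * k * g)) a := by group
        _ = ρ g a := by rw [map_mul, LinearEquiv.mul_apply, h]) with hW | hW
    · rw [hW, Submodule.mem_bot] at hxW
      have h := congrArg b.equivFun hxW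
      rwa [LinearEquiv.apply_symm_apply, map_zero] at h
    · refine absurd (Subgroup.eq_bot_iff_forall K |>.2 fun k hk => hρ ?_) hK
      rw [map_one]
      ext a
      have ha : a ∈ W := hW ▸ Submodule.mem_top
      exact ha k hk
  -- the eigenspace of the central element
  have hliC : LinearIndependent ℂ fun i : Fin d => σ z ^ (i : ℕ) := by
    have h1 : LinearIndependent (ZMod q) fun i : Fin d => fun m : Fin n × Fin n =>
        PadicInt.toZMod ((R (z ^ (i : ℕ))) m.1 m.2) := by
      have heq : ∀ (i : Fin d) a c, PadicInt.toZMod ((R (z ^ (i : ℕ))) a c) =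
          T (endHom ρ z ^ (i : ℕ)) a c := fun i a c => by
        rw [← map_pow (endHom ρ)]
        exact congrFun (congrFun (hR (z ^ (i : ℕ))) a) c
      rw [Fintype.linearIndependent_iff] at hli ⊢
      intro c hc
      refine hli c (T.injective ?_)
      rw [map_sum, map_zero]
      ext a a'
      have h := congrFun hc (a, a')
      simp only [Finset.sum_apply, Pi.smul_apply, smul_eq_mul, Pi.zero_apply] at h
      rw [Matrix.zero_apply, Matrix.sum_apply, ← h]
      exact Finset.sum_congr rfl fun i _ => by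
        rw [map_smul, Matrix.smul_apply, smul_eq_mul, heq]
    have h2 := Lift.linearIndependent_of_reduce φ _ h1
    rw [Fintype.linearIndependent_iff] at h2 ⊢
    intro c hc
    refine h2 c ?_
    ext ⟨a, a'⟩
    have h := congrFun (LinearMap.congr_fun hc (Pi.single a' 1)) a
    simp only [LinearMap.sum_apply, LinearMap.smul_apply, Finset.sum_apply, Pi.smul_apply,
      smul_eq_mul, ← map_pow, hσ, LinearMap.zero_apply, Pi.zero_apply, Matrix.mulVec_single_one,
      Matrix.col_apply, Matrix.map_apply] at h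
    simpa [Finset.sum_apply] using h
  obtain ⟨μ, hμ, hμd⟩ := Lift.exists_eigenspace (σ z) (k := Nat.card G) Nat.card_pos.ne'
    (by rw [← map_pow, pow_card_eq_one', map_one]) d (by simpa using hn0) hliC
  set W := Module.End.eigenspace (σ z) μ with hW
  have hWinv : ∀ g, ∀ w ∈ W, σ g w ∈ W := by
    intro g w hw
    rw [hW, Module.End.mem_eigenspace_iff] at hw ⊢
    rw [← Module.End.mul_apply, ← map_mul, ← Subgroup.mem_center_iff.1 hz g, map_mul,
      Module.End.mul_apply, hw, map_smul]
  -- a minimal invariant subspace inside it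
  let P : ℕ → Prop := fun r => ∃ U : Subrepresentation σ,
    U.toSubmodule ≤ W ∧ U.toSubmodule ≠ ⊥ ∧ finrank ℂ U.toSubmodule = r
  have hP : ∃ r, P r := ⟨_, ⟨W, fun g w hw => hWinv g w hw⟩, le_rfl, hμ, rfl⟩
  obtain ⟨U, hUW, hU0, hUr⟩ := Nat.find_spec hP
  have hUmin : ∀ U' : Subrepresentation σ, U'.toSubmodule ≤ U.toSubmodule →
      U'.toSubmodule ≠ ⊥ → U'.toSubmodule = U.toSubmodule := by
    intro U' hle hne
    refine Submodule.eq_of_le_of_finrank_le hle ?_
    rw [hUr]
    exact Nat.find_min' hP ⟨U', hle.trans hUW, hne, rfl⟩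
  have hUirr : U.toRepresentation.IsIrreducible := by
    have : Nontrivial (Subrepresentation U.toRepresentation) := by
      refine ⟨⊥, ⊤, fun h => hU0 ?_⟩
      have h' := congrArg Subrepresentation.toSubmodule h
      rw [Submodule.eq_bot_iff]
      intro x hx
      have hx' : (⟨x, hx⟩ : U.toSubmodule) ∈
          (⊥ : Subrepresentation U.toRepresentation).toSubmodule := by
        rw [h']; exact Submodule.mem_top
      have hx'' : (⟨x, hx⟩ : U.toSubmodule) = 0 := (Submodule.mem_bot ℂ).1 hx'
      exact congrArg Subtype.val hx''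
    refine ⟨fun S => ?_⟩
    let U' : Subrepresentation σ := ⟨S.toSubmodule.map U.toSubmodule.subtype, by
      rintro g _ ⟨y, hy, rfl⟩
      exact ⟨U.toRepresentation g y, S.apply_mem_toSubmodule g hy, rfl⟩⟩
    by_cases hS : S.toSubmodule = ⊥
    · exact Or.inl (Subrepresentation.toSubmodule_injective hS)
    · refine Or.inr (Subrepresentation.toSubmodule_injective ?_)
      have h := hUmin U' (Submodule.map_subtype_le _ _) (fun h => hS
        (Submodule.map_injective_of_injective (U.toSubmodule.injective_subtype)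
          (h.trans (Submodule.map_bot _).symm)))
      have hinj := Submodule.map_injective_of_injective (U.toSubmodule.injective_subtype)
      refine hinj ?_
      exact h.trans (Submodule.map_subtype_top _).symm
  set e := (Module.finBasis ℂ U.toSubmodule).equivFun
  refine ⟨finrank ℂ U.toSubmodule, Cfsg.Agent.Lib.Chars.conjRep U.toRepresentation e, ?_, ?_, ?_, ?_⟩
  · rw [Module.finrank_pos_iff, Submodule.nontrivial_iff_ne_bot]; exact hU0
  · refine le_trans (Nat.mul_le_mul_right d (Submodule.finrank_mono hUW)) ?_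
    simpa using hμd
  · exact Cfsg.Agent.Lib.Chars.isIrreducible_of_equiv (Cfsg.Agent.Lib.Chars.conjRepEquiv U.toRepresentation e)
  · rw [injective_iff_map_eq_one]
    intro g hg
    have hfixU : ∀ w ∈ U.toSubmodule, σ g w = w := by
      intro w hw
      have h' := congrArg (fun f : Module.End ℂ _ => f (e ⟨w, hw⟩)) hg
      have h'' : e (U.toRepresentation g (e.symm (e ⟨w, hw⟩))) = e ⟨w, hw⟩ := h'
      rw [e.symm_apply_apply] at h''
      exact congrArg Subtype.val (e.injective h'')
    let K : Subgroup G :=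
      { carrier := {k | ∀ w ∈ U.toSubmodule, σ k w = w}
        one_mem' := fun w _ => by simp
        mul_mem' := fun {a c} ha hc w hw => by
          rw [map_mul, Module.End.mul_apply, hc w hw, ha w hw]
        inv_mem' := fun {a} ha w hw => by
          conv_lhs => rw [← ha w hw]
          rw [← Module.End.mul_apply, ← map_mul, inv_mul_cancel, map_one, Module.End.one_apply] }
    have : K.Normal := ⟨fun k hk g w hw => by
      have h := hk _ (U.apply_mem_toSubmodule g⁻¹ hw)
      rw [map_mul, map_mul, Module.End.mul_apply, Module.End.mul_apply, h, ← Module.End.mul_apply,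
        ← map_mul, mul_inv_cancel, map_one, Module.End.one_apply]⟩
    by_contra hne
    refine hU0 ((Submodule.eq_bot_iff _).2 fun w hw => hfix K (fun h => hne ?_) w fun k hk => hk w hw)
    exact (Subgroup.eq_bot_iff_forall K).1 h g hfixU

end Cfsg.Agent.Lib.TransKGV94
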