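import Cfsg.Agent.Lib.TransKGV94.Spec
import Cfsg.Agent.Lib.PPD.Basic

/-!
# Primitive prime divisors in groups transitive on nonzero vectors
-/

set_option autoImplicit false

namespace Cfsg.Agent.Lib.TransKGV94

open Cfsg.Agent.Lib.SolvLinear

universe u v

variable {q : ℕ} [Fact q.Prime] {V : Type v} [AddCommGroup V] [Module (ZMod q) V] [Finite V]

/-- `s` divides no `q ^ i - 1` with `1 ≤ i < n`. -/
def IsPrim (q n s : ℕ) : Prop := ∀ i, 1 ≤ i → i < n → ¬ s ∣ q ^ i - 1

/-- In dimension below `n` there is no element of order `s`. -/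
theorem eq_one_of_pow_eq_one {W : Type v} [AddCommGroup W] [Module (ZMod q) W] [Finite W]
    {n s : ℕ} (hs : s.Prime) (hsq : s ≠ q) (hprim : IsPrim q n s)
    (hW : Module.finrank (ZMod q) W < n) {f : Module.End (ZMod q) W} (hf : f ^ s = 1) : f = 1 := by
  classical
  haveI := Fact.mk hs
  have hq := (Fact.out : q.Prime)
  set i := Module.finrank (ZMod q) W with hi
  let b := Module.finBasisOfFinrankEq (ZMod q) W hi.symm
  let e : Module.End (ZMod q) W ≃ₐ[ZMod q] Matrix (Fin i) (Fin i) (ZMod q) := algEquivMatrix b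
  let u : GL (Fin i) (ZMod q) := (IsUnit.of_pow_eq_one (show (e f) ^ s = 1 by
    rw [← map_pow, hf, map_one]) hs.ne_zero).unit
  have hu : u ^ s = 1 := Units.ext (by
    rw [Units.val_pow_eq_pow_val, IsUnit.unit_spec, Units.val_one, ← map_pow, hf, map_one])
  by_contra hne
  have hu1 : u ≠ 1 := fun h => hne (e.injective (by
    have := congrArg Units.val h
    rwa [IsUnit.unit_spec, Units.val_one, ← map_one e] at this))
  have hord : orderOf u = s := orderOf_eq_prime hu hu1
  have hdvd : s ∣ Nat.card (GL (Fin i) (ZMod q)) := hord ▸ orderOf_dvd_natCard u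
  rw [Matrix.card_GL_field, ZMod.card] at hdvd
  obtain ⟨j, -, hj⟩ := (hs.prime.dvd_finsetProd_iff _).1 hdvd
  have hji : (j : ℕ) < i := j.2
  rw [show q ^ i - q ^ (j : ℕ) = q ^ (j : ℕ) * (q ^ (i - j) - 1) by
    rw [Nat.mul_sub, ← pow_add, mul_one, show (j : ℕ) + (i - j) = i by omega]] at hj
  rcases hs.dvd_mul.1 hj with h | h
  · exact hsq ((Nat.prime_dvd_prime_iff_eq hs hq).1 (hs.dvd_of_dvd_pow h))
  · exact hprim _ (by omega) (by omega) h

variable [Nontrivial V] {G : Type u} [Group G] {ρ : G →* (V ≃ₗ[ZMod q] V)}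

/-- An element of primitive prime order has no invariant proper subspace. -/
theorem submodule_eq_bot_or_top (hρ : Function.Injective ρ) {s : ℕ} (hs : s.Prime) (hsq : s ≠ q)
    (hprim : IsPrim q (Module.finrank (ZMod q) V) s) {y : G} (hy : orderOf y = s)
    (W : Submodule (ZMod q) V) (hW : ∀ w ∈ W, ρ y w ∈ W) : W = ⊥ ∨ W = ⊤ := by
  classical
  haveI := Fact.mk hs
  by_contra hc
  push Not at hc
  set T := endHom ρ y with hT
  have hTs : T ^ s = 1 := by rw [hT, ← map_pow, ← hy, pow_orderOf_eq_one, map_one]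
  have hlt : Module.finrank (ZMod q) W < Module.finrank (ZMod q) V := Submodule.finrank_lt hc.2
  have hres : T.restrict (show ∀ w ∈ W, T w ∈ W from hW) = 1 := by
    refine eq_one_of_pow_eq_one hs hsq hprim hlt ?_
    rw [Module.End.pow_restrict]
    refine LinearMap.ext fun w => Subtype.ext ?_
    rw [LinearMap.coe_restrict_apply, hTs]
    rfl
  obtain ⟨w, hw, hw0⟩ := (Submodule.ne_bot_iff _).1 hc.1
  set F := LinearMap.ker (T - 1) with hF
  have hwF : w ∈ F := by
    rw [hF, LinearMap.mem_ker, LinearMap.sub_apply, Module.End.one_apply, sub_eq_zero]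
    exact congrArg Subtype.val (LinearMap.congr_fun hres ⟨w, hw⟩)
  have hFlt : Module.finrank (ZMod q) (V ⧸ F) < Module.finrank (ZMod q) V := by
    have h1 := Submodule.finrank_quotient_add_finrank F
    have h2 : 0 < Module.finrank (ZMod q) F :=
      Submodule.one_le_finrank_iff.2 ((Submodule.ne_bot_iff _).2 ⟨w, hwF, hw0⟩)
    omega
  have hFT : F ≤ F.comap T := fun x hx => by
    rw [hF, LinearMap.mem_ker, LinearMap.sub_apply, Module.End.one_apply, sub_eq_zero] at hx
    rw [Submodule.mem_comap, hF, LinearMap.mem_ker, LinearMap.sub_apply, Module.End.one_apply, hx,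
      sub_eq_zero]
    exact hx
  haveI : Finite (V ⧸ F) := Finite.of_surjective _ (Submodule.Quotient.mk_surjective F)
  have hquot : F.mapQ F T hFT = 1 := by
    refine eq_one_of_pow_eq_one hs hsq hprim hFlt ?_
    rw [← Submodule.mapQ_pow]
    simp only [hTs]
    exact Submodule.mapQ_id F
  have hsq0 : (T - 1) ^ 2 = 0 := by
    refine LinearMap.ext fun x => ?_
    have h1 : Submodule.Quotient.mk (p := F) (T x) = Submodule.Quotient.mk x := by
      rw [← Submodule.mapQ_apply F F T (h := hFT), hquot]; rfl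
    rw [Submodule.Quotient.eq] at h1
    rw [pow_two, Module.End.mul_apply]
    exact LinearMap.mem_ker.1 h1
  have hq2 := (Fact.out : q.Prime).two_le
  haveI : CharP (Module.End (ZMod q) V) q :=
    charP_of_injective_algebraMap (algebraMap (ZMod q) (Module.End (ZMod q) V)).injective q
  have hTq : T ^ q = 1 := by
    have h1 : (T - 1) ^ q = 0 := pow_eq_zero_of_le hq2 hsq0
    rw [sub_pow_char_of_commute _ (Commute.one_right T), one_pow, sub_eq_zero] at h1
    exact h1
  have hyq : y ^ q = 1 := endHom_injective ρ hρ (by rw [map_pow, map_one]; exact hTq)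
  exact hsq ((Nat.prime_dvd_prime_iff_eq hs (Fact.out : q.Prime)).1
    (hy ▸ orderOf_dvd_of_pow_eq_one hyq))

/-- The centraliser of an element of primitive prime order is abelian. -/
theorem centralizer_comm (hρ : Function.Injective ρ) {s : ℕ} (hs : s.Prime) (hsq : s ≠ q)
    (hprim : IsPrim q (Module.finrank (ZMod q) V) s) {y : G} (hy : orderOf y = s) {a b : G}
    (ha : a * y = y * a) (hb : b * y = y * b) : a * b = b * a := by
  classical
  set T := endHom ρ y with hT
  set K := Algebra.adjoin (ZMod q) ({T} : Set (Module.End (ZMod q) V)) with hK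
  have hTK : T ∈ K := Algebra.self_mem_adjoin_singleton _ _
  have hcomm : ∀ g : G, g * y = y * g → ∀ c ∈ K, Commute (endHom ρ g) c := by
    intro g hg c hc
    refine Algebra.commute_of_mem_adjoin_singleton_of_commute hc ?_
    exact Commute.map hg (endHom ρ)
  obtain ⟨v0, hv0⟩ := exists_ne (0 : V)
  let f : Module.End (ZMod q) V →ₗ[ZMod q] V := LinearMap.applyₗ v0
  set W := (Subalgebra.toSubmodule K).map f with hW
  have hWtop : W = ⊤ := by
    refine (submodule_eq_bot_or_top hρ hs hsq hprim hy W ?_).resolve_left ?_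
    · rintro _ ⟨c, hc, rfl⟩
      exact ⟨T * c, K.mul_mem hTK hc, rfl⟩
    · exact (Submodule.ne_bot_iff _).2 ⟨v0, ⟨1, K.one_mem, rfl⟩, hv0⟩
  obtain ⟨c, hc, hcv⟩ : endHom ρ a v0 ∈ W := hWtop ▸ Submodule.mem_top
  have hEa : endHom ρ a = c := by
    have hker : LinearMap.ker (endHom ρ a - c) = ⊤ := by
      refine (submodule_eq_bot_or_top hρ hs hsq hprim hy _ fun w hw => ?_).resolve_left ?_
      · rw [LinearMap.mem_ker] at hw ⊢
        have h1 : Commute (endHom ρ a - c) T :=
          (hcomm a ha T hTK).sub_left (Algebra.commute_of_mem_adjoin_self hc).symm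
        have h2 := LinearMap.congr_fun h1.eq w
        rw [Module.End.mul_apply, Module.End.mul_apply, hw, map_zero] at h2
        exact h2
      · refine (Submodule.ne_bot_iff _).2 ⟨v0, ?_, hv0⟩
        rw [LinearMap.mem_ker, LinearMap.sub_apply, sub_eq_zero]
        exact hcv.symm
    exact sub_eq_zero.1 (LinearMap.ker_eq_top.1 hker)
  refine endHom_injective ρ hρ ?_
  rw [map_mul, map_mul, hEa]
  exact (hcomm b hb c hc).symm.eq

/-- A nontrivial normal subgroup of prime power order contributes a normal abelian subgroup. -/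
theorem exists_abelian_normal [Finite G] {s : ℕ} (hs : s.Prime) (Q : Subgroup G) [Q.Normal]
    (hQ : IsPGroup s Q) (hne : Q ≠ ⊥) :
    ∃ A : Subgroup G, A.Normal ∧ IsMulCommutative A ∧ s ∣ Nat.card A := by
  haveI := Fact.mk hs
  refine ⟨Q ⊓ Subgroup.centralizer (Q : Set G), inferInstance, center_comm Q, ?_⟩
  haveI : Nontrivial Q := (Subgroup.nontrivial_iff_ne_bot _).2 hne
  haveI := hQ.center_nontrivial
  obtain ⟨⟨z, hz⟩, hz1⟩ := exists_ne (1 : Subgroup.center Q)
  have hzA : (z : G) ∈ Q ⊓ Subgroup.centralizer (Q : Set G) :=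
    ⟨z.2, Subgroup.mem_centralizer_iff.2 fun g hg =>
      congrArg Subtype.val (Subgroup.mem_center_iff.1 hz ⟨g, hg⟩)⟩
  rcases (hQ.to_le inf_le_left : IsPGroup s ↥(Q ⊓ Subgroup.centralizer (Q : Set G))).exists_card_eq
    with ⟨k, hk⟩
  rcases Nat.eq_zero_or_pos k with rfl | hk0
  · exfalso
    rw [pow_zero, Subgroup.card_eq_one] at hk
    rw [hk, Subgroup.mem_bot] at hzA
    exact hz1 (Subtype.ext (Subtype.ext hzA))
  · exact hk ▸ dvd_pow_self s hk0.ne'

/-- A normal subgroup of primitive prime power order makes the group semilinear. -/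
theorem semilinear_of_normal_pGroup [Finite G] (hρ : Function.Injective ρ) (ht : IsVecTransitive ρ)
    {s : ℕ} (hs : s.Prime) (hprim : IsPrim q (Module.finrank (ZMod q) V) s) (Q : Subgroup G)
    [Q.Normal] (hQ : IsPGroup s Q) (hne : Q ≠ ⊥) : IsSemilinear ρ := by
  obtain ⟨A, hAn, hA, hsA⟩ := exists_abelian_normal hs Q hQ hne
  haveI := hAn
  refine ⟨A, hAn, hA, le_antisymm (degree_le ht A hA) ?_⟩
  by_contra hc
  exact hprim _ (degree_pos ht A hA) (not_le.1 hc) (hsA.trans (natCard_dvd_degree ht A hA hρ))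

end Cfsg.Agent.Lib.TransKGV94
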