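import Cfsg.Agent.Lib.TransKGV94.Spec

/-!
The semilinear case: class numbers of a coprime semilinear group transitive on non-zero vectors.
-/

set_option autoImplicit false

namespace Cfsg.Agent.Lib.TransKGV94

open Cfsg.Agent.Lib.SolvLinear

universe u v

namespace Semi

variable {q : ℕ} [Fact q.Prime] {V : Type v} [AddCommGroup V] [Module (ZMod q) V] [Finite V]
  [Nontrivial V] {G : Type u} [Group G] [Finite G] {ρ : G →* (V ≃ₗ[ZMod q] V)}
  (hρ : Function.Injective ρ) (ht : IsVecTransitive ρ) (A : Subgroup G) [A.Normal]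
  (hA : IsMulCommutative A)

include ht in
omit [Nontrivial V] in
theorem card_stab_mul {v : V} (hv : v ≠ 0) :
    (Nat.card V - 1) * Nat.card (stab ρ v) = Nat.card G := by
  letI : MulAction G V := MulAction.compHom V ρ
  have hs : MulAction.stabilizer G v = stab ρ v := Subgroup.ext fun g => Iff.rfl
  have horb : MulAction.orbit G v = {0}ᶜ := by
    ext w
    constructor
    · rintro ⟨g, rfl⟩
      exact fun h => hv ((ρ g).map_eq_zero_iff.1 h)
    · intro hw
      obtain ⟨g, hg⟩ := ht v w hv hw
      exact ⟨g, hg⟩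
  have hidx : (stab ρ v).index = Nat.card V - 1 := by
    rw [← hs, MulAction.index_stabilizer, horb, Set.ncard_compl, Set.ncard_singleton]
  rw [← hidx, mul_comm, Subgroup.card_mul_index]

include hρ ht hA in
/-- The kernel of the action on the field lies in the field. -/
theorem mem_alg (hk : degree ρ A = Module.finrank (ZMod q) V) {y : G} (hy : conjAut ρ A y = 1) :
    endHom ρ y ∈ alg ρ A := by
  obtain ⟨v0, hv0⟩ := exists_ne (0 : V)
  have hcomm : ∀ c ∈ alg ρ A, Commute (endHom ρ y) c := fun c hc =>
    alg_commute_of_commute ρ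
      (fun a ha => Commute.map ((conjAut_eq_one_iff hρ A y).1 hy a ha) (endHom ρ)) hc
  let f : alg ρ A → V := fun c => (c : Module.End (ZMod q) V) v0
  have hf : Function.Injective f := by
    intro c d hcd
    rcases eq_zero_or_isUnit ht A hA (sub_mem c.2 d.2) with h0 | ⟨b, hb, hb1⟩
    · exact Subtype.ext (sub_eq_zero.1 h0)
    · exfalso
      apply hv0
      have h3 := LinearMap.congr_fun ((alg_commute ρ hA (sub_mem c.2 d.2) hb).symm.eq.trans hb1) v0
      rw [Module.End.mul_apply, LinearMap.sub_apply,
        show (c : Module.End (ZMod q) V) v0 = (d : Module.End (ZMod q) V) v0 from hcd, sub_self,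
        map_zero] at h3
      exact h3.symm
  have hbij : Function.Bijective f := hf.bijective_of_nat_card_le <| by
    rw [natCard_alg ht A hA, hk, card_eq_pow (q := q) (V := V)]
  obtain ⟨l, hl⟩ := hbij.2 (endHom ρ y v0)
  have : endHom ρ y = l := by
    refine LinearMap.ext fun v => ?_
    obtain ⟨c, rfl⟩ := hbij.2 v
    calc endHom ρ y ((c : Module.End (ZMod q) V) v0)
        = (c : Module.End (ZMod q) V) (endHom ρ y v0) := LinearMap.congr_fun (hcomm c c.2).eq v0
      _ = (c : Module.End (ZMod q) V) ((l : Module.End (ZMod q) V) v0) := by rw [← hl]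
      _ = (l : Module.End (ZMod q) V) ((c : Module.End (ZMod q) V) v0) :=
          LinearMap.congr_fun (alg_commute ρ hA c.2 l.2).eq v0
  rw [this]
  exact l.2

include hρ ht hA in
/-- The kernel is semiregular. -/
theorem eq_one_of_fix (hk : degree ρ A = Module.finrank (ZMod q) V) {y : G}
    (hy : conjAut ρ A y = 1) {w : V} (hw : w ≠ 0) (hfix : ρ y w = w) : y = 1 := by
  rcases eq_zero_or_isUnit ht A hA (sub_mem (mem_alg hρ ht A hA hk hy) (one_mem _)) with h | ⟨b, hb, h⟩
  · exact endHom_injective ρ hρ (by rw [map_one]; exact sub_eq_zero.1 h)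
  · exfalso
    refine hw ?_
    have h3 := LinearMap.congr_fun
      ((alg_commute ρ hA (sub_mem (mem_alg hρ ht A hA hk hy) (one_mem _)) hb).symm.eq.trans h) w
    rw [Module.End.mul_apply, LinearMap.sub_apply, endHom_apply, hfix, Module.End.one_apply,
      sub_self, map_zero] at h3
    exact h3.symm

include hρ ht hA in
/-- An element outside the kernel centralises few elements of the kernel. -/
theorem fixed_bound (hk : degree ρ A = Module.finrank (ZMod q) V) {g : G}
    (hg : conjAut ρ A g ≠ 1) :
    Nat.card {y : G // conjAut ρ A y = 1 ∧ Commute g y} + 1 ≤ Nat.sqrt (Nat.card V) := by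
  haveI : Finite (Module.End (ZMod q) V) :=
    Finite.of_injective (fun f : Module.End (ZMod q) V => ⇑f) DFunLike.coe_injective
  letI := (isField_alg ht A hA).toField
  set σ := conjAut ρ A g with hσ
  obtain ⟨x, hx⟩ : ∃ x, σ x ≠ x := by
    by_contra hc
    push Not at hc
    exact hg (AlgEquiv.ext hc)
  let T := Option {y : G // conjAut ρ A y = 1 ∧ Commute g y}
  let emb : T → alg ρ A := fun t => t.elim 0 fun y => ⟨endHom ρ y.1, mem_alg hρ ht A hA hk y.2.1⟩
  have hfix : ∀ t, σ (emb t) = emb t := by
    intro t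
    cases t with
    | none => exact map_zero σ
    | some y =>
      refine Subtype.ext ?_
      show endHom ρ g * endHom ρ y.1 * endHom ρ g⁻¹ = endHom ρ y.1
      rw [← map_mul, ← map_mul, y.2.2.eq, mul_inv_cancel_right]
  have hinj : Function.Injective emb := by
    have hne : ∀ y : {y : G // conjAut ρ A y = 1 ∧ Commute g y},
        (⟨endHom ρ y.1, mem_alg hρ ht A hA hk y.2.1⟩ : alg ρ A) ≠ 0 := by
      intro y h
      obtain ⟨w, hw⟩ := exists_ne (0 : V)
      have := LinearMap.congr_fun (congrArg Subtype.val h) w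
      exact hw ((ρ y.1).map_eq_zero_iff.1 this)
    intro s t h
    cases s <;> cases t
    · rfl
    · exact absurd h.symm (hne _)
    · exact absurd h (hne _)
    · exact congrArg some (Subtype.ext (endHom_injective ρ hρ (congrArg Subtype.val h)))
  let m : T × T → alg ρ A := fun z => emb z.1 + x * emb z.2
  have hm : Function.Injective m := by
    rintro ⟨a, b⟩ ⟨a', b'⟩ h
    have h1 : x * (emb b - emb b') = emb a' - emb a := by
      change emb a + x * emb b = emb a' + x * emb b' at h
      linear_combination h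
    have h2 : (σ x - x) * (emb b - emb b') = 0 := by
      have := congrArg σ h1
      rw [map_mul, map_sub, map_sub, hfix, hfix, hfix, hfix, ← h1] at this
      linear_combination this
    have hb : emb b = emb b' :=
      sub_eq_zero.1 ((mul_eq_zero.1 h2).resolve_left (sub_ne_zero.2 hx))
    rw [hb, sub_self, mul_zero] at h1
    exact Prod.ext (hinj (sub_eq_zero.1 h1.symm).symm) (hinj hb)
  have := Nat.card_le_card_of_injective m hm
  rw [Nat.card_prod, natCard_alg ht A hA, hk, ← card_eq_pow (q := q) (V := V)] at this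
  have h3 : Nat.card T = Nat.card {y : G // conjAut ρ A y = 1 ∧ Commute g y} + 1 :=
    Finite.card_option
  rw [h3] at this
  exact Nat.le_sqrt.2 this

include hρ ht hA in
/-- The commuting pair count. -/
theorem class_bound (hk : degree ρ A = Module.finrank (ZMod q) V) :
    (conjAut ρ A).ker.index * Nat.card (ConjClasses G) ≤
      Nat.card (conjAut ρ A).ker +
        ((conjAut ρ A).ker.index ^ 2 - 1) * (Nat.sqrt (Nat.card V) - 1) := by
  classical
  haveI := Fintype.ofFinite G
  set K := (conjAut ρ A).ker with hK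
  set e := K.index
  set a := Nat.card K with ha
  set s := Nat.sqrt (Nat.card V) - 1
  have hcard : Nat.card G = e * a := by rw [mul_comm, Subgroup.card_mul_index]
  have hKcomm : ∀ x ∈ K, ∀ y ∈ K, Commute x y := by
    intro x hx y hy
    refine endHom_injective ρ hρ ?_
    rw [map_mul, map_mul]
    exact (alg_commute ρ hA (mem_alg hρ ht A hA hk hx) (mem_alg hρ ht A hA hk hy)).eq
  let C : G → Subgroup G := fun g => Subgroup.centralizer {g}
  have hC : ∀ g h, h ∈ C g ↔ g * h = h * g := fun g h => by
    rw [Subgroup.mem_centralizer_singleton_iff]; exact eq_comm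
  have hsum : Nat.card (ConjClasses G) * Nat.card G = ∑ g : G, Nat.card (C g) := by
    rw [← card_comm_eq_card_conjClasses_mul_card]
    rw [Nat.card_congr (show {p : G × G // Commute p.1 p.2} ≃ Σ g : G, C g from
      { toFun := fun p => ⟨p.1.1, p.1.2, (hC _ _).2 p.2⟩
        invFun := fun z => ⟨(z.1, z.2.1), (hC _ _).1 z.2.2⟩
        left_inv := fun _ => rfl
        right_inv := fun _ => rfl }), Nat.card_sigma]
  have hout : ∀ g, g ∉ K → Nat.card ↥(C g ⊓ K) ≤ s := by
    intro g hg
    have h := fixed_bound hρ ht A hA hk (g := g) hg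
    have : Nat.card ↥(C g ⊓ K) = Nat.card {y : G // conjAut ρ A y = 1 ∧ Commute g y} :=
      Nat.card_congr (Equiv.subtypeEquivRight fun y => by
        rw [Subgroup.mem_inf, hC, hK, MonoidHom.mem_ker]; exact and_comm)
    omega
  have hbig : ∀ g, g ∉ K → Nat.card (C g) ≤ e * s := by
    intro g hg
    have h1 := (K.subgroupOf (C g)).card_mul_index
    have h2 : (K.subgroupOf (C g)).index ≤ e :=
      Nat.le_of_dvd (Nat.pos_of_ne_zero Subgroup.index_ne_zero_of_finite)
        (Subgroup.relIndex_dvd_index_of_normal K (C g))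
    have h3 : Nat.card (K.subgroupOf (C g)) = Nat.card ↥(C g ⊓ K) := by
      refine Nat.card_congr ⟨fun z => ⟨z.1.1, z.1.2, Subgroup.mem_subgroupOf.1 z.2⟩,
        fun z => ⟨⟨z.1, z.2.1⟩, Subgroup.mem_subgroupOf.2 z.2.2⟩, fun _ => rfl, fun _ => rfl⟩
    calc Nat.card (C g) = Nat.card ↥(C g ⊓ K) * (K.subgroupOf (C g)).index := by rw [← h3, h1]
      _ ≤ s * e := Nat.mul_le_mul (hout g hg) h2
      _ = e * s := mul_comm _ _
  have hsplit : ∀ g, Nat.card (C g) =
      ∑ h : G, if g * h = h * g then 1 else 0 := by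
    intro g
    rw [Nat.card_eq_fintype_card, Finset.sum_boole, Nat.cast_id, ← Fintype.card_subtype]
    exact Fintype.card_congr (Equiv.subtypeEquivRight fun h => hC g h)
  let Kf := Finset.univ.filter fun g => g ∈ K
  let Of := Finset.univ.filter fun g => g ∉ K
  have hKf : Kf.card = a := by
    rw [ha, Nat.card_eq_fintype_card, Fintype.card_subtype]
  have hOf : Of.card = e * a - a := by
    have := Finset.card_filter_add_card_filter_not (s := (Finset.univ : Finset G)) (fun g => g ∈ K)
    rw [Finset.card_univ, ← Nat.card_eq_fintype_card, hcard] at this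
    change Kf.card + Of.card = _ at this
    omega
  have hin : ∑ g ∈ Kf, Nat.card (C g) ≤ a * a + (e * a - a) * s := by
    calc ∑ g ∈ Kf, Nat.card (C g)
        = ∑ h : G, ∑ g ∈ Kf, (if g * h = h * g then 1 else 0) := by
          rw [Finset.sum_comm]; exact Finset.sum_congr rfl fun g _ => hsplit g
      _ = ∑ h ∈ Kf, ∑ g ∈ Kf, (if g * h = h * g then 1 else 0) +
          ∑ h ∈ Of, ∑ g ∈ Kf, (if g * h = h * g then 1 else 0) :=
          (Finset.sum_filter_add_sum_filter_not _ _ _).symm
      _ ≤ ∑ _h ∈ Kf, a + ∑ _h ∈ Of, s := by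
          refine Nat.add_le_add (Finset.sum_le_sum fun h _ => ?_) (Finset.sum_le_sum fun h hh => ?_)
          · rw [Finset.sum_boole, Nat.cast_id, ← hKf]
            exact Finset.card_filter_le _ _
          · rw [Finset.sum_boole, Nat.cast_id]
            refine le_trans (le_of_eq ?_) (hout h (Finset.mem_filter.1 hh).2)
            rw [Nat.card_eq_fintype_card, Fintype.card_subtype, Finset.filter_filter]
            refine congrArg Finset.card (Finset.filter_congr fun g _ => ?_)
            rw [Subgroup.mem_inf, hC]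
            exact ⟨fun z => ⟨z.2.symm, z.1⟩, fun z => ⟨z.2, z.1.symm⟩⟩
      _ = a * a + (e * a - a) * s := by
          rw [Finset.sum_const, Finset.sum_const, hKf, hOf, smul_eq_mul, smul_eq_mul]
  have hall : Nat.card (ConjClasses G) * (e * a) ≤
      a * a + (e * a - a) * s + (e * a - a) * (e * s) := by
    conv_lhs => rw [← hcard, hsum, ← Finset.sum_filter_add_sum_filter_not Finset.univ (fun g => g ∈ K)]
    refine Nat.add_le_add hin ?_
    calc ∑ g ∈ Of, Nat.card (C g) ≤ ∑ _g ∈ Of, e * s :=
          Finset.sum_le_sum fun g hg => hbig g (Finset.mem_filter.1 hg).2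
      _ = _ := by rw [Finset.sum_const, hOf, smul_eq_mul]
  have he : 1 ≤ e := Nat.one_le_iff_ne_zero.2 Subgroup.index_ne_zero_of_finite
  have hpos : 0 < a := Nat.card_pos
  refine Nat.le_of_mul_le_mul_left ?_ hpos
  clear_value e
  obtain ⟨e', rfl⟩ : ∃ e', e = e' + 1 := ⟨e - 1, by omega⟩
  rw [show (e' + 1) ^ 2 - 1 = e' * e' + 2 * e' by
    rw [Nat.sub_eq_iff_eq_add (Nat.one_le_pow _ _ (by omega))]; ring]
  rw [show (e' + 1) * a - a = e' * a by rw [add_one_mul, Nat.add_sub_cancel]] at hall
  nlinarith [hall]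

end Semi

/-- Brick B. -/
theorem semi : SemiStmt.{u, v} := by
  intro q hq V _ _ _ _ G _ _ ρ hρ ht hqG hsemi v hv
  obtain ⟨A, hAn, hA, hk⟩ := hsemi
  haveI := hAn
  classical
  set n := Module.finrank (ZMod q) V with hn
  have hn0 : 0 < n := Module.finrank_pos
  set K := (conjAut ρ A).ker with hK
  set e := K.index with he'
  set a := Nat.card K with ha
  set c := Nat.card (stab ρ v)
  set N := Nat.card V with hN
  have hNq : N = q ^ n := card_eq_pow (q := q) (V := V)
  have hGc : (N - 1) * c = Nat.card G := Semi.card_stab_mul ht hv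
  have hGe : Nat.card G = e * a := by rw [mul_comm, Subgroup.card_mul_index]
  haveI : Finite (Module.End (ZMod q) V) :=
    Finite.of_injective (fun f : Module.End (ZMod q) V => ⇑f) DFunLike.coe_injective
  letI := (isField_alg ht A hA).toField
  have hen : e ∣ n := by
    rw [he', hK, Subgroup.index_ker, ← hk]
    refine (Subgroup.card_subgroup_dvd_card _).trans (dvd_of_eq ?_)
    exact IsGalois.card_aut_eq_finrank (ZMod q) (alg ρ A)
  let f : K →* alg ρ A :=
    { toFun := fun y => ⟨endHom ρ y, Semi.mem_alg hρ ht A hA hk y.2⟩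
      map_one' := Subtype.ext (map_one _)
      map_mul' := fun a b => Subtype.ext (map_mul (endHom ρ) _ _) }
  have hf : Function.Injective f := fun a b h =>
    Subtype.ext (endHom_injective ρ hρ (congrArg Subtype.val h))
  have hadvd : a ∣ N - 1 := by
    have hf' : Function.Injective f.toHomUnits := fun a b h => hf (congrArg Units.val h)
    refine (Subgroup.card_dvd_of_injective f.toHomUnits hf').trans ?_
    rw [Nat.card_units, natCard_alg ht A hA, hk, hNq]
  have hN1 : 1 < N := Finite.one_lt_card
  have haN : a ≤ N - 1 := Nat.le_of_dvd (by omega) hadvd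
  have hksc : Nat.card (ConjClasses (stab ρ v)) ≤ c :=
    Nat.card_le_card_of_surjective _ ConjClasses.mk_surjective
  have hce : c ≤ e := by
    refine Nat.le_of_mul_le_mul_left ?_ (show 0 < N - 1 by omega)
    rw [hGc, hGe, mul_comm (N - 1) e]
    exact Nat.mul_le_mul_left _ haN
  have he1 : 1 ≤ e := Nat.one_le_iff_ne_zero.2 Subgroup.index_ne_zero_of_finite
  rcases Nat.eq_or_lt_of_le he1 with he | he2
  · -- the group is the multiplicative group
    have htop : K = ⊤ := Subgroup.index_eq_one.1 he.symm
    have hcyc : IsCyclic K := isCyclic_of_subgroup_isDomain f hf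
    haveI : IsCyclic G := by
      rw [htop] at hcyc
      exact isCyclic_of_surjective Subgroup.topEquiv.toMonoidHom Subgroup.topEquiv.surjective
    have hstab : stab ρ v = ⊥ := by
      rw [eq_bot_iff]
      intro y hy
      have hy1 : conjAut ρ A y = 1 := MonoidHom.mem_ker.1 (show y ∈ K from htop ▸ Subgroup.mem_top y)
      exact Semi.eq_one_of_fix hρ ht A hA hk hy1 hv hy
    have hc1 : c = 1 := by simp only [c, hstab, Subgroup.card_bot]
    have hk1 : Nat.card (ConjClasses G) ≤ Nat.card G :=
      Nat.card_le_card_of_surjective _ ConjClasses.mk_surjective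
    rw [hc1, mul_one] at hGc
    exact ⟨by omega, fun _ => Or.inl inferInstance⟩
  have hbound := Semi.class_bound hρ ht A hA hk
  simp only [← hK, ← he', ← ha, ← hN] at hbound
  set s := Nat.sqrt N
  set kG := Nat.card (ConjClasses G)
  have hs1 : 1 ≤ s := Nat.le_sqrt.2 (by omega)
  have hle : e ≤ n := Nat.le_of_dvd hn0 hen
  have hgeneric : (e + 1) * s < N → kG + Nat.card (ConjClasses (stab ρ v)) < N := by
    intro hlt
    refine lt_of_le_of_lt (Nat.add_le_add_left (hksc.trans hce) _) ?_
    clear_value e s N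
    obtain ⟨e', rfl⟩ : ∃ e', e = e' + 2 := ⟨e - 2, by omega⟩
    obtain ⟨s', hs'⟩ : ∃ s', s = s' + 1 := ⟨s - 1, by omega⟩
    rw [hs'] at hbound hlt
    rw [Nat.add_sub_cancel, show (e' + 2) ^ 2 - 1 = e' * e' + 4 * e' + 3 by
      rw [Nat.sub_eq_iff_eq_add (Nat.one_le_pow _ _ (by omega))]; ring] at hbound
    refine Nat.lt_of_mul_lt_mul_left (a := e' + 2) ?_
    obtain ⟨N', rfl⟩ : ∃ N', N = N' + 1 := ⟨N - 1, by omega⟩
    rw [Nat.add_sub_cancel] at haN
    nlinarith [hbound, haN, Nat.mul_le_mul_left (e' + 1) hlt.le]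
  by_cases hgen : (n + 1) ^ 2 < q ^ n
  · have hlt : (e + 1) * s < N := by
      by_contra hc
      have h1 : N * N ≤ ((n + 1) * s) * ((n + 1) * s) :=
        Nat.mul_le_mul ((not_lt.1 hc).trans (Nat.mul_le_mul_right _ (by omega)))
          ((not_lt.1 hc).trans (Nat.mul_le_mul_right _ (by omega)))
      have h2 : s * s ≤ N := Nat.sqrt_le N
      have h3 : N * N ≤ (n + 1) ^ 2 * N := by
        refine h1.trans ?_
        calc ((n + 1) * s) * ((n + 1) * s) = (n + 1) ^ 2 * (s * s) := by ring
          _ ≤ _ := Nat.mul_le_mul_left _ h2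
      exact absurd (Nat.le_of_mul_le_mul_right h3 (by omega)) (by rw [hNq]; exact not_le.2 hgen)
    exact ⟨(hgeneric hlt).le, fun h => absurd h (hgeneric hlt).ne⟩
  · -- the small cases
    clear hf f
    have hq2 := hq.out.two_le
    have hn2 : 2 ≤ n := by omega
    have hsmall : (q = 2 ∧ n ≤ 5) ∨ (q = 3 ∧ n = 2) := by
      have hn6 : n ≤ 5 := by
        by_contra hc
        apply hgen
        refine lt_of_lt_of_le ?_ (Nat.pow_le_pow_left hq2 n)
        have : ∀ k, (k + 7) ^ 2 < 2 ^ (k + 6) := fun k => by
          induction k with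
          | zero => norm_num
          | succ k ih =>
            have h2 : (k + 1 + 7) ^ 2 ≤ 2 * (k + 7) ^ 2 := by
              simp only [sq]; nlinarith
            rw [show k + 1 + 6 = (k + 6) + 1 by omega, pow_succ 2 (k + 6)]
            omega
        have := this (n - 6)
        rwa [show n - 6 + 7 = n + 1 by omega, show n - 6 + 6 = n by omega] at this
      rcases (by omega : q = 2 ∨ q = 3 ∨ 4 ≤ q) with h | h | h
      · exact Or.inl ⟨h, hn6⟩
      · subst h
        rcases (by omega : n = 2 ∨ n = 3 ∨ n = 4 ∨ n = 5) with h | h | h | h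
        · exact Or.inr ⟨rfl, h⟩
        all_goals exact absurd (by rw [h]; norm_num) hgen
      · exfalso
        apply hgen
        refine lt_of_lt_of_le ?_ (Nat.pow_le_pow_left h n)
        interval_cases n <;> norm_num
    rcases hsmall with ⟨rfl, hn5⟩ | ⟨rfl, hn2'⟩
    · have hodd : ¬ 2 ∣ e := fun h2 => hqG (hGe ▸ h2.mul_right a)
      have he35 : (n = 3 ∧ e = 3) ∨ (n = 5 ∧ e = 5) := by
        interval_cases n <;> interval_cases e <;> omega
      rcases he35 with ⟨hn3, he3⟩ | ⟨hn5', he5⟩
      · have hN8 : N = 8 := by rw [hNq, hn3]; norm_num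
        have hs : s = 2 := by
          simp only [s, hN8]; exact (Nat.eq_sqrt.2 (by norm_num)).symm
        rw [hN8] at hGc haN hadvd
        rw [hs, he3] at hbound
        rw [hGe, he3] at hGc
        norm_num at hGc hbound haN hadvd
        have ha7 : a = 7 := by
          rcases (Nat.dvd_prime (by norm_num : Nat.Prime 7)).1 hadvd with h | h <;> omega
        refine ⟨by omega, fun h => Or.inr (Or.inl ⟨hN8, by rw [hGe, he3, ha7]⟩)⟩
      · have hN32 : N = 32 := by rw [hNq, hn5']; norm_num
        have hs : s = 5 := by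
          simp only [s, hN32]; exact (Nat.eq_sqrt.2 (by norm_num)).symm
        have hlt : (e + 1) * s < N := by rw [hs, he5, hN32]; norm_num
        exact ⟨(hgeneric hlt).le, fun h => absurd h (hgeneric hlt).ne⟩
    · have hN9 : N = 9 := by rw [hNq, hn2']; norm_num
      have he2' : e = 2 := by omega
      have hs : s = 3 := by
        simp only [s, hN9]; exact (Nat.eq_sqrt.2 (by norm_num)).symm
      rw [hN9] at hGc haN hadvd ⊢
      rw [hs, he2'] at hbound
      rw [hGe, he2'] at hGc
      norm_num at hGc hbound haN hadvd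
      refine ⟨by omega, fun h => Or.inr (Or.inr ⟨rfl, ?_⟩)⟩
      rw [hGe, he2']
      omega

end Cfsg.Agent.Lib.TransKGV94
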