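import Cfsg.Agent.Lib.TransKGV94.Prim
import Cfsg.Agent.S0899
import Cfsg.Agent.S4485
import Cfsg.Agent.S4503
import Cfsg.Agent.S4504
import Cfsg.Agent.Lib.PSLSpectrum.Spectrum

/-!
# Sylow subgroups of groups with a small faithful complex representation
-/

set_option autoImplicit false

namespace Cfsg.Agent.Lib.TransKGV94

universe u

variable {G : Type u} [Group G] [Finite G] {m s : ℕ}

theorem charDegree_rep (R : Representation ℂ G (Fin m → ℂ)) : Cfsg.charDegree R.character = m := by
  rw [Cfsg.charDegree, Representation.char_one, Module.finrank_pi, Fintype.card_fin,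
    Complex.natCast_re, Nat.floor_natCast]

theorem faithful_char (R : Representation ℂ G (Fin m → ℂ)) (hR : Function.Injective R) (g : G)
    (hg : R.character g = R.character 1) : g = 1 :=
  hR (((Chars.rep_eq_one_iff R g).2 hg).trans (map_one R).symm)

/-- A normal subgroup of order `s` exactly dividing the order is the only Sylow subgroup. -/
theorem sylow_normal_of_normal [Fact s.Prime] (hsq : ¬ s ^ 2 ∣ Nat.card G) (H : Subgroup G)
    (hHn : H.Normal) (hH : Nat.card H = s) (P : Sylow s G) : (P : Subgroup G).Normal := by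
  have hp : IsPGroup s H := IsPGroup.of_card (n := 1) (by rw [hH, pow_one])
  obtain ⟨Q, hQ⟩ := hp.exists_le_sylow
  obtain ⟨k, hk⟩ := Q.2.exists_card_eq
  have hk1 : k ≤ 1 := by
    by_contra hc
    exact hsq ((pow_dvd_pow s (by omega)).trans (hk ▸ Subgroup.card_subgroup_dvd_card _))
  have hQH : H = (Q : Subgroup G) := Subgroup.eq_of_le_of_card_ge hQ (by
    rw [hH, hk]
    exact (Nat.pow_le_pow_right (Fact.out : s.Prime).pos hk1).trans (pow_one s).le)
  haveI : (Q : Subgroup G).Normal := hQH ▸ hHn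
  haveI := Sylow.unique_of_normal Q inferInstance
  rwa [Subsingleton.elim P Q]

/-- `s` exactly dividing: the Sylow subgroup is normal or the central quotient is `PSL (2, s)`. -/
theorem normal_or_psl [Fact s.Prime] (R : Representation ℂ G (Fin m → ℂ)) (hR : Function.Injective R)
    (hdvd : s ∣ Nat.card G) (hsq : ¬ s ^ 2 ∣ Nat.card G) (hle : 2 * m + 1 ≤ s) :
    (∀ P : Sylow s G, (P : Subgroup G).Normal) ∨
      (2 * m + 1 = s ∧ Nonempty
        ((G ⧸ Subgroup.center G) ≃* Matrix.ProjectiveSpecialLinearGroup (Fin 2) (ZMod s))) := by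
  have hs := (Fact.out : s.Prime)
  refine or_iff_not_imp_left.2 fun hN => ?_
  push Not at hN
  obtain ⟨P, hP⟩ := hN
  have hnn : ∀ H : Subgroup G, H.Normal → Nat.card H ≠ s := fun H hn hH =>
    hP (sylow_normal_of_normal hsq H hn hH P)
  have h1 := Cfsg.Agent.S4503.result s hs hdvd hsq hnn R.character ⟨m, R, rfl⟩ (faithful_char R hR)
  rw [charDegree_rep] at h1
  have h2 : 2 * m + 1 = s := le_antisymm hle h1
  exact ⟨h2, Cfsg.Agent.S4504.result s hs hdvd hsq hnn R.character ⟨m, R, rfl⟩ (faithful_char R hR)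
    (by rw [charDegree_rep]; exact h2)⟩

theorem card_psl_mul [Fact s.Prime] (hs : s ≠ 2) :
    2 * Nat.card (Matrix.ProjectiveSpecialLinearGroup (Fin 2) (ZMod s)) = s * ((s + 1) * (s - 1)) := by
  have h := PSLSpectrum.card_psl_odd (F := ZMod s)
    (by rw [ZMod.card]; exact (Fact.out : s.Prime).odd_of_ne_two hs)
  rwa [ZMod.card] at h

theorem three_dvd_psl [Fact s.Prime] (hs : 5 ≤ s) :
    3 ∣ Nat.card (Matrix.ProjectiveSpecialLinearGroup (Fin 2) (ZMod s)) := by
  have h := card_psl_mul (s := s) (by omega)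
  have h3 : 3 ∣ s * ((s + 1) * (s - 1)) := by
    have : s % 3 = 0 ∨ (s + 1) % 3 = 0 ∨ (s - 1) % 3 = 0 := by omega
    rcases this with h | h | h
    · exact (Nat.dvd_of_mod_eq_zero h).mul_right _
    · exact ((Nat.dvd_of_mod_eq_zero h).mul_right _).mul_left _
    · exact ((Nat.dvd_of_mod_eq_zero h).mul_left _).mul_left _
  rw [← h] at h3
  exact (Nat.prime_three.dvd_mul.1 h3).resolve_left (by norm_num)

/-- A prime beyond twice the degree (or equal, in a group of order prime to three) has a normal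
Sylow subgroup. -/
theorem normal_of_half [Fact s.Prime] (R : Representation ℂ G (Fin m → ℂ)) (hR : Function.Injective R)
    (hm : 0 < m)
    (hle : 2 * m + 1 < s ∨ (2 * m + 1 = s ∧ 5 ≤ s ∧ ¬ 3 ∣ Nat.card G)) (P : Sylow s G) :
    (P : Subgroup G).Normal := by
  refine Cfsg.Agent.S0899.result m R hR s (Or.inr ⟨by omega, fun K hK Q => ?_⟩) P
  by_cases hd : s ∣ Nat.card K
  · rcases normal_or_psl (R.comp K.subtype) (hR.comp K.subtype_injective) hd hK (by omega) with
      h | ⟨h, ⟨e⟩⟩
    · exact h Q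
    · exfalso
      obtain ⟨-, h5, h3⟩ := hle.resolve_left (by omega)
      refine h3 ((three_dvd_psl h5).trans ?_)
      rw [← Nat.card_congr e.toEquiv]
      exact (Subgroup.card_quotient_dvd_card _).trans (Subgroup.card_subgroup_dvd_card K)
  · have hbot : (Q : Subgroup K) = ⊥ := by
      obtain ⟨k, hk⟩ := Q.2.exists_card_eq
      rcases Nat.eq_zero_or_pos k with rfl | hk0
      · exact Subgroup.card_eq_one.1 (by rw [hk, pow_zero])
      · exact absurd ((hk ▸ dvd_pow_self s hk0.ne').trans (Subgroup.card_subgroup_dvd_card _)) hd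
    rw [hbot]
    infer_instance

/-- A Sylow subgroup of order at least `s ^ 2` with `m < s` and uniform centralisers is normal. -/
theorem normal_of_sq [Fact s.Prime] (R : Representation ℂ G (Fin m → ℂ)) (hR : Function.Injective R)
    (hm : 0 < m) (hms : m < s)
    (hcomm : ∀ y : G, orderOf y = s → ∀ a b : G, a * y = y * a → b * y = y * b → a * b = b * a)
    (hsq : s ^ 2 ∣ Nat.card G) (P : Sylow s G) : (P : Subgroup G).Normal := by
  have hs := (Fact.out : s.Prime)
  obtain ⟨k, hk⟩ := P.2.exists_card_eq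
  have hk2 : 2 ≤ k := by
    have h := P.pow_dvd_card_of_pow_dvd_card hsq
    rw [hk] at h
    exact (Nat.pow_dvd_pow_iff_le_right hs.one_lt).1 h
  haveI : Nontrivial P := Finite.one_lt_card_iff_nontrivial.1 (by
    rw [hk]; exact Nat.one_lt_pow (by omega) hs.one_lt)
  have hpow : ∀ x ∈ (P : Subgroup G), x ≠ 1 → ∃ j : ℕ, orderOf (x ^ j) = s := by
    intro x hx hx1
    obtain ⟨i, hi⟩ := P.2 ⟨x, hx⟩
    have hxi : orderOf x ∣ s ^ i := orderOf_dvd_of_pow_eq_one (congrArg Subtype.val hi)
    obtain ⟨l, -, hl⟩ := (Nat.dvd_prime_pow hs).1 hxi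
    rcases Nat.eq_zero_or_pos l with rfl | hl0
    · exact absurd (orderOf_eq_one_iff.1 (by rw [hl, pow_zero])) hx1
    · exact ⟨s ^ (l - 1), by rw [orderOf_pow_of_dvd (pow_ne_zero _ hs.ne_zero) (by rw [hl]; exact pow_dvd_pow s (Nat.sub_le l 1)), hl, Nat.pow_div (Nat.sub_le l 1) hs.pos, Nat.sub_sub_self hl0, pow_one]⟩
  haveI := P.2.center_nontrivial
  obtain ⟨⟨z, hz⟩, hz1⟩ := exists_ne (1 : Subgroup.center P)
  have hzc : ∀ p ∈ (P : Subgroup G), p * (z : G) = z * p := fun p hp =>
    congrArg Subtype.val (Subgroup.mem_center_iff.1 hz ⟨p, hp⟩)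
  obtain ⟨i, hi⟩ := hpow z z.2 fun h => hz1 (Subtype.ext (Subtype.ext h))
  have hPcomm : ∀ a ∈ (P : Subgroup G), ∀ b ∈ (P : Subgroup G), a * b = b * a := fun a ha b hb =>
    hcomm _ hi a b (Commute.pow_right (hzc a ha) i).eq (Commute.pow_right (hzc b hb) i).eq
  refine Cfsg.Agent.S4485.result s hs ((dvd_pow_self s two_ne_zero).trans hsq) P (fun x hx hx1 => ?_)
    k hk R.character ⟨m, R, rfl⟩ (faithful_char R hR) ?_
  · refine le_antisymm (fun a ha => Subgroup.mem_centralizer_iff.2 fun p hp => ?_) fun a ha => ?_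
    · obtain ⟨j, hj⟩ := hpow x hx hx1
      exact hcomm _ hj p a (Commute.pow_right (hPcomm p hp x hx) j).eq
        (Commute.pow_right (Subgroup.mem_centralizer_singleton_iff.1 ha) j).eq
    · exact Subgroup.mem_centralizer_singleton_iff.2 (Subgroup.mem_centralizer_iff.1 ha x hx).symm
  · rw [charDegree_rep]
    have h1 : m + 1 ≤ s := hms
    calc m ^ 2 + 1 < (m + 1) ^ 2 := by ring_nf; omega
      _ ≤ s ^ 2 := Nat.pow_le_pow_left h1 2
      _ ≤ s ^ k := Nat.pow_le_pow_right hs.pos hk2

end Cfsg.Agent.Lib.TransKGV94
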