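import Cfsg.Agent.Lib.TransKGV94.Spec

/-!
# Dimension four over the field of three elements

A non-semilinear solvable coprime group transitive on the `80` nonzero vectors has a normal
subgroup `D` of order `32` with quotient of order at most `20`.
-/

set_option autoImplicit false

namespace Cfsg.Agent.Lib.TransKGV94

open Cfsg Cfsg.Agent.Lib.SolvLinear
open scoped commutatorElement

universe u v

namespace ThreeFourProof

/-- The class number is controlled by the largest centralisers outside a small set. -/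
theorem classes_bound {G : Type*} [Group G] [Finite G] (Z : Subgroup G) (hZ : Nat.card Z = 2)
    (h : ∀ g : G, g ∉ Z → 10 * Nat.card ↥(Subgroup.centralizer ({g} : Set G)) ≤ Nat.card G) :
    10 * Nat.card (ConjClasses G) ≤ Nat.card G + 18 := by
  classical
  haveI := Fintype.ofFinite G
  have hcard := card_comm_eq_card_conjClasses_mul_card G
  have e : {p : G × G // Commute p.1 p.2} ≃ Σ g : G, ↥(Subgroup.centralizer ({g} : Set G)) :=
    { toFun := fun p => ⟨p.1.1, ⟨p.1.2, Subgroup.mem_centralizer_singleton_iff.2 p.2.eq.symm⟩⟩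
      invFun := fun s => ⟨(s.1, (s.2 : G)), (Subgroup.mem_centralizer_singleton_iff.1 s.2.2).symm⟩
      left_inv := fun _ => rfl
      right_inv := fun _ => rfl }
  rw [Nat.card_congr e, Nat.card_sigma] at hcard
  have hbound : ∑ g : G, 10 * Nat.card ↥(Subgroup.centralizer ({g} : Set G)) ≤
      ∑ g : G, (Nat.card G + if g ∈ Z then 9 * Nat.card G else 0) := by
    refine Finset.sum_le_sum fun g _ => ?_
    by_cases hg : g ∈ Z
    · rw [if_pos hg]
      have := Subgroup.card_le_card_group (Subgroup.centralizer ({g} : Set G))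
      omega
    · rw [if_neg hg, add_zero]
      exact h g hg
  have hf : (Finset.univ.filter fun g : G => g ∈ Z).card = 2 := by
    rw [← hZ, Nat.card_eq_fintype_card, Fintype.card_subtype]
  rw [← Finset.mul_sum, hcard, Finset.sum_add_distrib, Finset.sum_const, Finset.card_univ,
    smul_eq_mul, ← Finset.sum_filter, Finset.sum_const, smul_eq_mul, hf,
    ← Nat.card_eq_fintype_card] at hbound
  have hpos : 0 < Nat.card G := Nat.card_pos
  have h2 : (10 * Nat.card (ConjClasses G)) * Nat.card G ≤ (Nat.card G + 18) * Nat.card G := by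
    rw [mul_assoc, add_mul]
    omega
  exact Nat.le_of_mul_le_mul_right h2 hpos

/-- A group of order dividing `80` without normal `2`-subgroups has a normal self-centralising
subgroup of order `5`. -/
theorem five_structure {Q : Type*} [Group Q] [Finite Q] [Group.IsSolvable Q]
    (hQ : Nat.card Q ∣ 80) (h5 : 5 ∣ Nat.card Q) (h2 : pCore 2 Q = ⊥) :
    Nat.card Q ≤ 20 ∧ ∀ y : Q, orderOf y = 5 → ∀ g : Q, g * y = y * g → g ∈ Subgroup.zpowers y := by
  haveI : Fact (Nat.Prime 5) := ⟨by norm_num⟩
  set O := pCore 5 Q with hO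
  have hOp : IsPGroup 5 O := Cfsg.Agent.Lib.PSolvable.pCore_isPGroup (p := 5) (G := Q)
  have hOcard : Nat.card O ∣ 5 := by
    obtain ⟨k, hk⟩ := hOp.exists_card_eq
    rw [hk]
    have h1 : 5 ^ k ∣ 80 := hk ▸ (Subgroup.card_subgroup_dvd_card O).trans hQ
    have h2 : k ≤ 1 := by
      by_contra hc
      have : 5 ^ 2 ∣ 80 := (pow_dvd_pow 5 (by omega)).trans h1
      norm_num at this
    simpa using pow_dvd_pow 5 h2
  have hFle : fittingSubgroup Q ≤ O := by
    rw [Cfsg.Agent.Lib.Fitting.fittingSubgroup_eq_iSup_pCore]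
    refine iSup_le fun s => ?_
    haveI : Fact (s : ℕ).Prime := ⟨s.2⟩
    by_cases hs5 : (s : ℕ) = 5
    · rw [hs5]
    by_cases hs2 : (s : ℕ) = 2
    · rw [hs2, h2]; exact bot_le
    obtain ⟨k, hk⟩ := (Cfsg.Agent.Lib.PSolvable.pCore_isPGroup (p := (s : ℕ)) (G := Q)).exists_card_eq
    rcases k with _ | k
    · rw [pow_zero, Subgroup.card_eq_one] at hk
      rw [hk]; exact bot_le
    · exfalso
      have h1 : (s : ℕ) ∣ 2 ^ 4 * 5 :=
        (dvd_pow_self (s : ℕ) k.succ_ne_zero).trans ((hk ▸ Subgroup.card_subgroup_dvd_card _).trans hQ)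
      rcases (Nat.Prime.dvd_mul s.2).1 h1 with h | h
      · exact hs2 ((Nat.prime_dvd_prime_iff_eq s.2 Nat.prime_two).1 (s.2.dvd_of_dvd_pow h))
      · exact hs5 ((Nat.prime_dvd_prime_iff_eq s.2 (by norm_num)).1 h)
  have hcent : Subgroup.centralizer (O : Set Q) ≤ O := fun g hg =>
    hFle (Cfsg.Agent.Lib.Fitting.centralizer_fittingSubgroup_le
      (Subgroup.centralizer_le (show (fittingSubgroup Q : Set Q) ⊆ O from hFle) hg))
  have hO5 : Nat.card O = 5 := by
    refine ((Nat.dvd_prime (by norm_num)).1 hOcard).resolve_left fun h1 => ?_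
    rw [Subgroup.card_eq_one] at h1
    have hall : ∀ g : Q, g = 1 := fun g => by
      have := hcent (show g ∈ Subgroup.centralizer (O : Set Q) by
        rw [h1, Subgroup.mem_centralizer_iff]
        intro a ha
        rw [Subgroup.mem_bot.1 ha, one_mul, mul_one])
      rwa [h1, Subgroup.mem_bot] at this
    haveI : Subsingleton Q := ⟨fun a b => by rw [hall a, hall b]⟩
    rw [Nat.card_of_subsingleton (1 : Q)] at h5
    norm_num at h5
  haveI : IsCyclic O := isCyclic_of_prime_card (p := 5) hO5
  let f : Q →* MulAut O := MulAut.conjNormal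
  have hker : f.ker ≤ O := by
    refine fun g hg => hcent (Subgroup.mem_centralizer_iff.2 fun a ha => ?_)
    have := congrArg Subtype.val (DFunLike.congr_fun (MonoidHom.mem_ker.1 hg) ⟨a, ha⟩)
    rw [MulAut.conjNormal_apply] at this
    exact (mul_inv_eq_iff_eq_mul.1 this).symm
  refine ⟨?_, fun y hy g hg => ?_⟩
  · rw [Subgroup.card_eq_card_quotient_mul_card_subgroup f.ker,
      Nat.card_congr (QuotientGroup.quotientKerEquivRange f).toEquiv]
    have h1 : Nat.card f.range ≤ 4 := by
      refine (Subgroup.card_le_card_group _).trans ?_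
      rw [Nat.card_congr (IsCyclic.mulAutMulEquiv O).toEquiv, hO5, Nat.card_eq_fintype_card,
        ZMod.card_units_eq_totient]
      decide
    exact Nat.mul_le_mul h1 ((Subgroup.card_le_of_le hker).trans hO5.le)
  · set Y := Subgroup.zpowers y with hY
    have hY5 : Nat.card Y = 5 := by rw [hY, Nat.card_zpowers, hy]
    haveI : O.Normal := inferInstance
    have hYO : Y = O := by
      have hp : IsPGroup 5 Y := IsPGroup.of_card (n := 1) (by rw [hY5, pow_one])
      have hsup : IsPGroup 5 ↥(Y ⊔ O) := hp.to_sup_of_normal_right hOp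
      obtain ⟨k, hk⟩ := hsup.exists_card_eq
      have hk1 : k ≤ 1 := by
        by_contra hc
        have h1 : 5 ^ 2 ∣ 80 := (pow_dvd_pow 5 (by omega)).trans
          ((hk ▸ Subgroup.card_subgroup_dvd_card (Y ⊔ O)).trans hQ)
        norm_num at h1
      have hle5 : Nat.card ↥(Y ⊔ O) ≤ 5 := by
        rw [hk]
        calc 5 ^ k ≤ 5 ^ 1 := Nat.pow_le_pow_right (by norm_num) hk1
          _ = 5 := pow_one 5
      rw [Subgroup.eq_of_le_of_card_ge (le_sup_left : Y ≤ Y ⊔ O) (by omega)]
      exact (Subgroup.eq_of_le_of_card_ge (le_sup_right : O ≤ Y ⊔ O) (by omega)).symm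
    have hgO : g ∈ Y := hYO.ge (hcent (Subgroup.mem_centralizer_iff.2 fun a ha => ?_))
    · exact hgO
    replace ha : a ∈ Y := hYO.ge ha
    obtain ⟨i, rfl⟩ := Subgroup.mem_zpowers_iff.1 ha
    exact ((show Commute y g from hg.symm).zpow_left i).eq

variable {G : Type u} [Group G] [Finite G] {D : Subgroup G}

/-- The facts about a normal subgroup of order `32` used below. -/
structure Setup (D : Subgroup G) : Prop where
  classTwo : IsClassTwo 2 D
  card_D : Nat.card D = 32
  card_C : Nat.card ↥(Subgroup.centralizer (D : Set G)) = 2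
  C_le : Subgroup.centralizer (D : Set G) ≤ D
  not_abelian : ¬ D ≤ Subgroup.centralizer (D : Set G)

namespace Setup

variable (h : Setup D)

local notation "Z" => Subgroup.centralizer (D : Set G)

include h

theorem inf_eq : D ⊓ Z = Z := inf_eq_right.2 h.C_le

theorem central {z : G} (hz : z ∈ Z) (g : G) : g * z = z * g := by
  haveI := h.classTwo.normal
  haveI : (Z).Normal := inferInstance
  by_cases hz1 : z = 1
  · rw [hz1, mul_one, one_mul]
  obtain ⟨a, ha, hu⟩ := (Nat.card_eq_two_iff' (1 : ↥Z)).1 h.card_C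
  have e1 : (⟨z, hz⟩ : ↥Z) = a := hu _ (fun he => hz1 (congrArg Subtype.val he))
  have e2 : (⟨g * z * g⁻¹, Subgroup.Normal.conj_mem inferInstance z hz g⟩ : ↥Z) = a :=
    hu _ (fun he => hz1 (conj_eq_one_iff.1 (congrArg Subtype.val he)))
  exact mul_inv_eq_iff_eq_mul.1 (congrArg Subtype.val (e2.trans e1.symm))

theorem isCyclic : IsCyclic ↥(D ⊓ Z) := by
  rw [h.inf_eq]; exact isCyclic_of_prime_card (p := 2) h.card_C

theorem fixed_mem {y : G} (hy : orderOf y = 5) {d : G} (hd : d ∈ D) (hc : y * d = d * y) :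
    d ∈ Z := by
  have hm : Nat.card D = 2 ^ (2 * 2) * Nat.card ↥(D ⊓ Z) := by
    rw [h.inf_eq, h.card_D, h.card_C]; norm_num
  have hyD : ∃ d ∈ D, y * d ≠ d * y := by
    by_contra hall
    push Not at hall
    have hyC : y ∈ Z := Subgroup.mem_centralizer_iff.2 fun d hd => (hall d hd).symm
    have := Subgroup.orderOf_dvd_natCard _ hyC
    rw [hy, h.card_C] at this
    norm_num at this
  obtain ⟨c, hc2, hdvd, hc0⟩ := h.classTwo.coprime_action h.not_abelian h.isCyclic hm
    (r := 5) (by norm_num) (by norm_num) (hy ▸ pow_orderOf_eq_one y)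
    (fun z hz => h.central hz.2 y) hyD
  refine hc0 ?_ d hd hc
  by_contra hne
  obtain rfl : c = 1 := by omega
  norm_num at hdvd

theorem eq_or_eq {y : G} (hy : orderOf y = 5) (U : Subgroup G) (hZU : Z ≤ U) (hUD : U ≤ D)
    (hyU : ∀ u ∈ U, y * u * y⁻¹ ∈ U) : U = Z ∨ U = D := by
  haveI : Fact (Nat.Prime 5) := ⟨by norm_num⟩
  have hyN : y ∈ Subgroup.normalizer (U : Set G) := Subgroup.mem_normalizer_fintype hyU
  have hzp : Subgroup.zpowers y ≤ Subgroup.normalizer (U : Set G) := Subgroup.zpowers_le.2 hyN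
  letI : MulAction (Subgroup.zpowers y) U :=
    MulAction.compHom U ((Subgroup.normalizerMonoidHom U).comp (Subgroup.inclusion hzp))
  have hact : ∀ (g : Subgroup.zpowers y) (d : U), ((g • d : U) : G) = g * d * (g : G)⁻¹ :=
    fun g d => rfl
  have hpg : IsPGroup 5 (Subgroup.zpowers y) :=
    IsPGroup.of_card (n := 1) (by rw [Nat.card_zpowers, hy, pow_one])
  have hfix : Nat.card (MulAction.fixedPoints (Subgroup.zpowers y) U) = 2 := by
    rw [← h.card_C]
    refine Nat.card_congr
      { toFun := fun d => ⟨d.1.1, h.fixed_mem hy (hUD d.1.2) ?_⟩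
        invFun := fun z => ⟨⟨z.1, hZU z.2⟩, fun g => Subtype.ext ?_⟩
        left_inv := fun _ => rfl
        right_inv := fun _ => rfl }
    · have := congrArg Subtype.val (d.2 ⟨y, Subgroup.mem_zpowers y⟩)
      rw [hact] at this
      exact mul_inv_eq_iff_eq_mul.1 this
    · rw [hact]
      show (g : G) * (z : G) * (g : G)⁻¹ = z
      rw [h.central z.2, mul_inv_cancel_right]
  have hmod := hpg.card_modEq_card_fixedPoints U
  rw [hfix] at hmod
  have hdvd : Nat.card U ∣ 2 ^ 5 := (Subgroup.card_dvd_of_le hUD).trans h.card_D.dvd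
  obtain ⟨i, hi5, hi⟩ := (Nat.dvd_prime_pow Nat.prime_two).1 hdvd
  rw [hi] at hmod
  have hi' : i = 1 ∨ i = 5 := by
    unfold Nat.ModEq at hmod
    interval_cases i <;> omega
  rcases hi' with rfl | rfl
  · exact Or.inl (Subgroup.eq_of_le_of_card_ge hZU (by rw [hi, h.card_C]; norm_num)).symm
  · exact Or.inr (Subgroup.eq_of_le_of_card_ge hUD (by rw [hi, h.card_D]; norm_num))

theorem pCore_two {x : G} (hx : orderOf x = 5) : pCore 2 G = D := by
  haveI : Fact (Nat.Prime 2) := ⟨Nat.prime_two⟩
  haveI := h.classTwo.normal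
  haveI : (Z).Normal := inferInstance
  set W := pCore 2 G with hW
  have hWp : IsPGroup 2 W := Cfsg.Agent.Lib.PSolvable.pCore_isPGroup (p := 2) (G := G)
  have hDW : D ≤ W := Cfsg.Agent.Lib.PSolvable.le_pCore h.classTwo.isPGroup
  have hcomm : ∀ d ∈ D, ∀ w ∈ W, ⁅d, w⁆ ∈ Z := by
    rcases h.eq_or_eq hx (⁅D, W⁆ ⊔ Z) le_sup_right (sup_le (Subgroup.commutator_le_left _ _) h.C_le)
      (fun u hu => Subgroup.Normal.conj_mem inferInstance u hu x) with he | he
    · intro d hd w hw
      exact he.le (le_sup_left (a := ⁅D, W⁆) (Subgroup.commutator_mem_commutator hd hw))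
    · exfalso
      set U := ⁅D, W⁆ with hU
      haveI : U.Normal := inferInstance
      have hUle : U ≤ ⁅U, W⁆ := by
        rw [hU, Subgroup.commutator_le]
        intro d hd w hw
        obtain ⟨a, ha, z, hz, rfl⟩ := Subgroup.mem_sup_of_normal_right.1 (he.ge hd)
        have : ⁅a * z, w⁆ = ⁅a, w⁆ := by
          simp only [commutatorElement_def]
          rw [show a * z * w * (a * z)⁻¹ * w⁻¹ = a * (z * w * z⁻¹) * a⁻¹ * w⁻¹ by group,
            (h.central hz w).symm, mul_inv_cancel_right]
        rw [this]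
        exact Subgroup.commutator_mem_commutator ha hw
      have hUD : U ≤ D := Subgroup.commutator_le_left _ _
      have hUne : U ≠ ⊥ := fun hb => by
        rw [hb, bot_sup_eq] at he
        exact h.not_abelian he.ge
      exact (Cfsg.Agent.Lib.Coprime.commutator_lt_of_isPGroup (h.classTwo.isPGroup.to_le hUD) hWp
        (fun w _ => by rw [Subgroup.normalizer_eq_top]; exact Subgroup.mem_top w) hUne).not_ge hUle
  -- an element is determined up to `Z` by its commutators with four conjugates of one element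
  obtain ⟨d, hd, hdZ⟩ := SetLike.not_le_iff_exists.1 h.not_abelian
  let e : ℕ → G := fun i => x ^ i * d * (x ^ i)⁻¹
  have heD : ∀ i, e i ∈ D := fun i => h.classTwo.normal.conj_mem d hd _
  have hex : ∀ i, x * e i * x⁻¹ = e (i + 1) := fun i => by simp only [e, pow_succ']; group
  have he5 : e 5 = e 0 := by
    have : x ^ 5 = 1 := hx ▸ pow_orderOf_eq_one x
    simp [e, this]
  set P := e 0 * e 1 * e 2 * e 3 * e 4 with hP
  have hPZ : P ∈ Z := by
    have hPD : P ∈ D := D.mul_mem (D.mul_mem (D.mul_mem (D.mul_mem (heD 0) (heD 1)) (heD 2)) (heD 3)) (heD 4)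
    have hxP : x * P * x⁻¹ = (e 0)⁻¹ * P * e 0 := by
      calc x * P * x⁻¹ = (x * e 0 * x⁻¹) * (x * e 1 * x⁻¹) * (x * e 2 * x⁻¹) * (x * e 3 * x⁻¹) *
            (x * e 4 * x⁻¹) := by rw [hP]; group
        _ = _ := by rw [hex, hex, hex, hex, hex, he5, hP]; group
    set z := (e 0)⁻¹ * P * e 0 * P⁻¹ with hz
    have hzZ : z ∈ Z := by
      have := h.classTwo.comm_mem _ (D.inv_mem (heD 0)) P hPD
      rw [inv_inv] at this
      exact this.2
    have hiter : ∀ j : ℕ, x ^ j * P * (x ^ j)⁻¹ = z ^ j * P := by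
      intro j
      induction j with
      | zero => simp
      | succ j ih =>
        calc x ^ (j + 1) * P * (x ^ (j + 1))⁻¹ = x * (x ^ j * P * (x ^ j)⁻¹) * x⁻¹ := by
              rw [pow_succ']; group
          _ = x * z ^ j * x⁻¹ * (x * P * x⁻¹) := by rw [ih]; group
          _ = z ^ (j + 1) * P := by
            rw [h.central ((Z).pow_mem hzZ j) x, mul_inv_cancel_right, hxP, pow_succ, mul_assoc (z ^ j),
              hz]
            group
    have hz5 : z ^ 5 = 1 := by
      have := hiter 5
      rw [show x ^ 5 = 1 from hx ▸ pow_orderOf_eq_one x, inv_one, one_mul, mul_one] at this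
      exact right_eq_mul.1 this
    have hz1 : z = 1 := by
      have h2 : orderOf z ∣ Nat.gcd 5 2 := Nat.dvd_gcd (orderOf_dvd_of_pow_eq_one hz5)
        (h.card_C ▸ Subgroup.orderOf_dvd_natCard _ hzZ)
      norm_num at h2
      exact h2
    have h1 := hiter 1
    rw [pow_one, pow_one, hz1, one_mul] at h1
    exact h.fixed_mem hx hPD (mul_inv_eq_iff_eq_mul.1 h1)
  set E : Subgroup G := Subgroup.closure ((Z : Set G) ∪ {e 0, e 1, e 2, e 3}) with hE
  have hmem : ∀ i, i < 4 → e i ∈ E := fun i hi => Subgroup.subset_closure (Or.inr (by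
    interval_cases i <;> simp))
  have hZE : Z ≤ E := fun z hz => Subgroup.subset_closure (Or.inl hz)
  have he4 : e 4 ∈ E := by
    have : e 4 = (e 0 * e 1 * e 2 * e 3)⁻¹ * P := by rw [hP]; group
    rw [this]
    exact E.mul_mem (E.inv_mem (E.mul_mem (E.mul_mem (E.mul_mem (hmem 0 (by norm_num))
      (hmem 1 (by norm_num))) (hmem 2 (by norm_num))) (hmem 3 (by norm_num)))) (hZE hPZ)
  have hED : E = D := by
    refine (h.eq_or_eq hx E hZE ((Subgroup.closure_le _).2 ?_) (fun u hu => ?_)).resolve_left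
      fun hc => hdZ (hc.le (by simpa [e] using hmem 0 (by norm_num)))
    · rintro y (hy | hy)
      · exact h.C_le hy
      · rcases hy with rfl | rfl | rfl | rfl <;> exact heD _
    · induction hu using Subgroup.closure_induction with
      | mem y hy =>
        rcases hy with hy | hy
        · rw [h.central hy x, mul_inv_cancel_right]
          exact hZE hy
        · rcases hy with rfl | rfl | rfl | rfl <;> rw [hex]
          · exact hmem 1 (by norm_num)
          · exact hmem 2 (by norm_num)
          · exact hmem 3 (by norm_num)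
          · exact he4
      | one => simp
      | mul a b _ _ ha hb =>
        rw [show x * (a * b) * x⁻¹ = (x * a * x⁻¹) * (x * b * x⁻¹) by group]
        exact E.mul_mem ha hb
      | inv a _ ha =>
        rw [show x * a⁻¹ * x⁻¹ = (x * a * x⁻¹)⁻¹ by group]
        exact E.inv_mem ha
  have hcard : Nat.card W ≤ 32 := by
    let F : W → (Fin 4 → ↥Z) := fun w i => ⟨⁅e i, (w : G)⁆, hcomm _ (heD i) _ w.2⟩
    classical
    haveI := Fintype.ofFinite W
    haveI := Fintype.ofFinite ↥Z
    have hfib : ∀ b ∈ (Finset.univ : Finset W).image F,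
        ((Finset.univ : Finset W).filter fun w => F w = b).card ≤ 2 := by
      intro b hb
      obtain ⟨w0, -, rfl⟩ := Finset.mem_image.1 hb
      have key : ∀ w : W, F w = F w0 → (w0 : G)⁻¹ * (w : G) ∈ Z := by
        intro w hw
        have hc : ∀ i : Fin 4, Commute ((w0 : G)⁻¹ * (w : G)) (e i) := fun i => by
          have h1 := congrArg Subtype.val (congrFun hw i)
          simp only [F, commutatorElement_def] at h1
          have h2 : (w : G) * (e i)⁻¹ * (w : G)⁻¹ = (w0 : G) * (e i)⁻¹ * (w0 : G)⁻¹ := by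
            simpa [mul_assoc] using h1
          refine Commute.inv_right_iff.1 ?_
          show (w0 : G)⁻¹ * w * (e i)⁻¹ = (e i)⁻¹ * ((w0 : G)⁻¹ * w)
          calc (w0 : G)⁻¹ * w * (e i)⁻¹ = (w0 : G)⁻¹ * ((w : G) * (e i)⁻¹ * (w : G)⁻¹) * w := by group
            _ = _ := by rw [h2]; group
        refine Subgroup.mem_centralizer_iff.2 fun y hy => ?_
        have hy' : y ∈ E := hED.ge hy
        clear hy
        show Commute y _
        induction hy' using Subgroup.closure_induction with
        | mem y hy =>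
          rcases hy with hy | hy
          · exact (h.central hy _).symm
          · rcases hy with rfl | rfl | rfl | rfl
            exacts [(hc 0).symm, (hc 1).symm, (hc 2).symm, (hc 3).symm]
        | one => exact Commute.one_left _
        | mul a b _ _ ha hb => exact ha.mul_left hb
        | inv a _ ha => exact ha.inv_left
      rw [← h.card_C, Nat.card_eq_fintype_card, ← Fintype.card_coe]
      refine Fintype.card_le_of_injective
        (fun w => ⟨(w0 : G)⁻¹ * ((w.1 : W) : G), key w.1 (Finset.mem_filter.1 w.2).2⟩) fun a b hab => ?_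
      exact Subtype.ext (Subtype.ext (mul_left_cancel (congrArg Subtype.val hab)))
    have h1 := Finset.card_le_mul_card_image (Finset.univ : Finset W) 2 hfib
    have h2 : ((Finset.univ : Finset W).image F).card ≤ 2 ^ 4 := by
      refine (Finset.card_le_univ _).trans (le_of_eq ?_)
      rw [Fintype.card_fun, Fintype.card_fin, ← Nat.card_eq_fintype_card, h.card_C]
    rw [Nat.card_eq_fintype_card]
    rw [Finset.card_univ] at h1
    omega
  exact (Subgroup.eq_of_le_of_card_ge hDW (by rw [h.card_D]; exact hcard)).symm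

theorem final [Group.IsSolvable G] (hG : Nat.card G ∣ 2560) (h80 : 80 ∣ Nat.card G) :
    Nat.card G ≤ 640 ∧ 10 * Nat.card (ConjClasses G) ≤ Nat.card G + 18 := by
  haveI : Fact (Nat.Prime 5) := ⟨by norm_num⟩
  haveI := h.classTwo.normal
  obtain ⟨x, hx⟩ := exists_prime_orderOf_dvd_card' (G := G) 5
    ((by norm_num : 5 ∣ 80).trans h80)
  have hidx : Nat.card G = Nat.card (G ⧸ D) * 32 := by
    rw [← h.card_D]; exact Subgroup.card_eq_card_quotient_mul_card_subgroup D
  have hQ : Nat.card (G ⧸ D) ∣ 80 :=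
    Nat.dvd_of_mul_dvd_mul_right (k := 32) (by norm_num) (hidx ▸ hG)
  have h5 : 5 ∣ Nat.card (G ⧸ D) := by
    have h1 : 5 ∣ Nat.card (G ⧸ D) * 32 := hidx ▸ (by norm_num : 5 ∣ 80).trans h80
    exact (Nat.Coprime.dvd_of_dvd_mul_right (by norm_num) h1)
  haveI : Fact (Nat.Prime 2) := ⟨Nat.prime_two⟩
  have h2 : pCore 2 (G ⧸ D) = ⊥ := by
    set M := pCore 2 (G ⧸ D) with hM
    haveI : M.Normal := inferInstance
    have hker : IsPGroup 2 (QuotientGroup.mk' D).ker := by
      rw [QuotientGroup.ker_mk']; exact h.classTwo.isPGroup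
    have hp : IsPGroup 2 (M.comap (QuotientGroup.mk' D)) :=
      (Cfsg.Agent.Lib.PSolvable.pCore_isPGroup (p := 2) (G := G ⧸ D)).comap_of_ker_isPGroup _ hker
    have hle : M.comap (QuotientGroup.mk' D) ≤ D :=
      (Cfsg.Agent.Lib.PSolvable.le_pCore hp).trans (h.pCore_two hx).le
    rw [eq_bot_iff]
    intro m hm
    obtain ⟨g, rfl⟩ := QuotientGroup.mk'_surjective D m
    exact Subgroup.mem_bot.2 ((QuotientGroup.eq_one_iff g).2 (hle hm))
  obtain ⟨hle, hcen⟩ := five_structure hQ h5 h2
  refine ⟨by omega, classes_bound _ h.card_C fun g hg => ?_⟩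
  set C := Subgroup.centralizer ({g} : Set G) with hC
  have h160 : 160 ≤ Nat.card G := by
    have := Nat.le_of_dvd Nat.card_pos h5
    omega
  by_cases h5C : 5 ∣ Nat.card C
  · obtain ⟨⟨y, hyC⟩, hy⟩ := exists_prime_orderOf_dvd_card' (G := C) 5 h5C
    rw [← Subgroup.orderOf_coe] at hy
    have hy5 : y ^ 5 = 1 := hy ▸ pow_orderOf_eq_one y
    -- the centraliser of `y` is `Z × ⟨y⟩`
    have hcy : ∀ u : G, u * y = y * u → ∃ i : ℤ, ∃ z ∈ Z, u = y ^ i * z := by
      intro u hu
      have hyD : (y : G ⧸ D) ≠ 1 := fun he => by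
        have := Subgroup.orderOf_dvd_natCard _ ((QuotientGroup.eq_one_iff y).1 he)
        rw [hy, h.card_D] at this
        norm_num at this
      have ho : orderOf (y : G ⧸ D) = 5 :=
        orderOf_eq_prime (by rw [← QuotientGroup.mk_pow, hy5, QuotientGroup.mk_one]) hyD
      obtain ⟨i, hi⟩ := Subgroup.mem_zpowers_iff.1 (hcen _ ho (u : G ⧸ D)
        (by rw [← QuotientGroup.mk_mul, hu, QuotientGroup.mk_mul]))
      rw [← QuotientGroup.mk_zpow, QuotientGroup.eq] at hi
      refine ⟨i, _, h.fixed_mem hy hi ?_, (mul_inv_cancel_left _ _).symm⟩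
      exact ((((Commute.refl y).zpow_right i).inv_right).mul_right (show Commute y u from hu.symm)).eq
    obtain ⟨i, z, hz, rfl⟩ := hcy g ((Subgroup.mem_centralizer_singleton_iff.1 hyC).symm)
    have hz2 : z ^ 2 = 1 := by
      rw [← orderOf_dvd_iff_pow_eq_one, ← h.card_C]
      exact Subgroup.orderOf_dvd_natCard _ hz
    have hg6 : (y ^ i * z) ^ 6 = y ^ i := by
      rw [(show Commute (y ^ i) z from h.central hz _).mul_pow, show z ^ 6 = (z ^ 2) ^ 3 by
        rw [← pow_mul], hz2, one_pow, mul_one, ← zpow_natCast, ← zpow_mul,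
        show i * ((6 : ℕ) : ℤ) = (5 : ℕ) * i + i by push_cast; ring, zpow_add, zpow_mul, zpow_natCast,
        hy5, one_zpow, one_mul]
    have hi : ¬ (5 : ℤ) ∣ i := by
      rintro ⟨k, rfl⟩
      apply hg
      rwa [zpow_mul, show (y : G) ^ (5 : ℤ) = 1 by exact_mod_cast hy5, one_zpow, one_mul]
    obtain ⟨a, b, hab⟩ : ∃ a b : ℤ, a * i + b * 5 = 1 :=
      (Int.isCoprime_iff_gcd_eq_one.2 (by
        rw [Int.gcd_comm]
        exact ((Int.prime_iff_natAbs_prime.2 (by norm_num : (5 : ℤ).natAbs.Prime)).coprime_iff_not_dvd.2 hi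
          |> Int.isCoprime_iff_gcd_eq_one.1)))
    let f : Fin 5 × ↥Z → G := fun p => y ^ (p.1 : ℕ) * (p.2 : G)
    have hsub : (C : Set G) ⊆ Set.range f := by
      intro u hu
      have hu' : Commute u (y ^ i * z) := Subgroup.mem_centralizer_singleton_iff.1 hu
      have h6 : Commute u (y ^ i) := hg6 ▸ hu'.pow_right 6
      have hy1 : Commute u y := by
        have := h6.zpow_right a
        rwa [← zpow_mul, mul_comm i a, show a * i = (-b) * 5 + 1 by linarith, zpow_add, zpow_one,
          mul_comm (-b) 5, zpow_mul, show (y : G) ^ (5 : ℤ) = 1 by exact_mod_cast hy5, one_zpow,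
          one_mul] at this
      obtain ⟨j, w, hw, rfl⟩ := hcy u hy1.eq
      refine ⟨(⟨(j % 5).toNat, by omega⟩, ⟨w, hw⟩), ?_⟩
      show y ^ (j % 5).toNat * w = y ^ j * w
      congr 1
      rw [← zpow_natCast, Int.toNat_of_nonneg (Int.emod_nonneg _ (by norm_num))]
      conv_rhs => rw [← Int.emod_add_mul_ediv j 5, zpow_add, zpow_mul,
        show (y : G) ^ (5 : ℤ) = 1 by exact_mod_cast hy5, one_zpow, mul_one]
    have hcard : Nat.card C ≤ 10 := by
      calc Nat.card C = (C : Set G).ncard := rfl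
        _ ≤ (Set.range f).ncard := Set.ncard_le_ncard hsub (Set.toFinite _)
        _ ≤ Nat.card (Fin 5 × ↥Z) := by
          rw [← Nat.card_coe_set_eq]; exact Finite.card_range_le f
        _ = 10 := by rw [Nat.card_prod, Nat.card_fin, h.card_C]
    omega
  · have hCdvd : Nat.card C ∣ Nat.card G := Subgroup.card_subgroup_dvd_card C
    have hC2 : Nat.card C ∣ 2 ^ 9 :=
      Nat.Coprime.dvd_of_dvd_mul_right (((Nat.prime_five).coprime_iff_not_dvd.2 h5C).symm)
        ((hCdvd.trans hG).trans (by norm_num))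
    obtain ⟨k, -, hk⟩ := (Nat.dvd_prime_pow Nat.prime_two).1 hC2
    have hG' : Nat.card G = 5 * (Nat.card G / 5) :=
      (Nat.mul_div_cancel' ((by norm_num : 5 ∣ 80).trans h80)).symm
    have hG5 : Nat.card G / 5 ∣ 2 ^ 9 := by
      refine Nat.dvd_of_mul_dvd_mul_left (k := 5) (by norm_num) ?_
      rw [← hG']; exact hG.trans (by norm_num)
    obtain ⟨l, -, hl⟩ := (Nat.dvd_prime_pow Nat.prime_two).1 hG5
    have hkl : 2 ^ k ∣ 2 ^ l := by
      rw [← hl]
      have hc : Nat.Coprime (2 ^ k) 5 := Nat.Coprime.pow_left _ (by norm_num)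
      refine hc.dvd_of_dvd_mul_left ?_
      rw [← hG', ← hk]; exact hCdvd
    have hne : k ≠ l := fun he => by
      subst he
      -- `C` is a Sylow subgroup, so it contains `D`
      have hCp : IsPGroup 2 C := IsPGroup.of_card (n := k) hk
      have hsup : IsPGroup 2 ↥(C ⊔ D) := hCp.to_sup_of_normal_right h.classTwo.isPGroup
      obtain ⟨j, hj⟩ := hsup.exists_card_eq
      have hjd : 2 ^ j ∣ 2 ^ k := by
        rw [← hl]
        have hc : Nat.Coprime (2 ^ j) 5 := Nat.Coprime.pow_left _ (by norm_num)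
        refine hc.dvd_of_dvd_mul_left ?_
        rw [← hG', ← hj]; exact Subgroup.card_subgroup_dvd_card _
      have hEq : C = C ⊔ D := Subgroup.eq_of_le_of_card_ge le_sup_left
        (by rw [hj, hk]; exact Nat.le_of_dvd (by positivity) hjd)
      exact hg (Subgroup.mem_centralizer_iff.2 fun d hd => by
        have : d ∈ C := hEq.ge (Subgroup.mem_sup_right hd)
        exact Subgroup.mem_centralizer_singleton_iff.1 this)
    have hlt : k + 1 ≤ l := by
      have := (Nat.pow_dvd_pow_iff_le_right (by norm_num : 1 < 2)).1 hkl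
      omega
    calc 10 * Nat.card C = 5 * 2 ^ (k + 1) := by rw [hk, pow_succ]; ring
      _ ≤ 5 * 2 ^ l := Nat.mul_le_mul_left 5 (Nat.pow_le_pow_right (by norm_num) hlt)
      _ = Nat.card G := by rw [← hl, ← hG']

end Setup

end ThreeFourProof

open ThreeFourProof in
theorem threeFour : ThreeFourStmt.{u, v} := by
  intro V _ _ _ _ G _ _ ρ hρ ht h3 hsol hns hn v hv
  haveI : Fact (Nat.Prime 3) := ⟨by norm_num⟩
  haveI := hsol
  have h80 : 80 ∣ Nat.card G := by
    have := pow_sub_one_dvd_card ht
    rw [hn] at this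
    simpa using this
  -- no normal abelian subgroup has order divisible by five
  have hA : ∀ A : Subgroup G, A.Normal → IsMulCommutative A → ¬ 5 ∣ Nat.card A := by
    intro A hAn hAc h5
    haveI := hAn
    have h1 := degree_lt_of_not_semilinear ht hns A hAc
    have h2 := degree_dvd ht A hAc
    have h4 := degree_pos ht A hAc
    rw [hn] at h1 h2
    have h5' := h5.trans (natCard_dvd_degree ht A hAc hρ)
    interval_cases hk : degree ρ A <;> simp_all
  obtain ⟨x, hx⟩ := exists_prime_orderOf_dvd_card' (G := G) 5 (hp := ⟨by norm_num⟩)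
    ((by norm_num : 5 ∣ 80).trans h80)
  obtain ⟨p, hp, D, m, h2, hne, hm1, -, hm, hpm, -, hpq, -, hC⟩ := exceptional hρ ht (r := 5)
    (by norm_num) (by omega) hA (hx ▸ pow_orderOf_eq_one x)
    (fun h => by rw [h, orderOf_one] at hx; norm_num at hx)
  obtain rfl : p = 2 :=
    (Nat.prime_dvd_prime_iff_eq hp.out Nat.prime_two).1 hpq
  rw [hn] at hpm
  obtain rfl : m = 2 := Nat.pow_right_injective le_rfl (hpm.trans (by norm_num : (4 : ℕ) = 2 ^ 2))
  haveI := h2.normal
  obtain ⟨P0, hP0, hP0Z, -⟩ := h2.exists_center_prime hne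
    (isCyclic_normal_abelian ht _ (center_comm D) hρ)
  have hC2 : Nat.card ↥(Subgroup.centralizer (D : Set G)) = 2 :=
    le_antisymm (Nat.le_of_dvd (by norm_num) hC)
      (hP0 ▸ Subgroup.card_le_of_le (hP0Z.trans inf_le_right))
  have hinf : D ⊓ Subgroup.centralizer (D : Set G) = Subgroup.centralizer (D : Set G) :=
    Subgroup.eq_of_le_of_card_ge inf_le_right (by
      rw [hC2, ← hP0]; exact Subgroup.card_le_of_le hP0Z)
  have hS : Setup D := ⟨h2, by rw [hm, hinf, hC2]; norm_num, hC2, inf_eq_right.1 hinf, hne⟩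
  -- no element of order thirteen
  have h13 : ¬ 13 ∣ Nat.card G := by
    intro h13
    haveI : Fact (Nat.Prime 13) := ⟨by norm_num⟩
    obtain ⟨y, hy⟩ := exists_prime_orderOf_dvd_card' (G := G) 13 h13
    have hyD : ∃ d ∈ D, y * d ≠ d * y := by
      by_contra hall
      push Not at hall
      have := Subgroup.orderOf_dvd_natCard (Subgroup.centralizer (D : Set G)) (x := y)
        (Subgroup.mem_centralizer_iff.2 fun d hd => (hall d hd).symm)
      rw [hy, hC2] at this
      norm_num at this
    obtain ⟨c, hc, hdvd, -⟩ := h2.coprime_action hne hS.isCyclic hm (r := 13) (by norm_num)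
      (by norm_num) (hy ▸ pow_orderOf_eq_one y) (fun z hz => hS.central hz.2 y) hyD
    interval_cases c <;> norm_num at hdvd
  have hGL : Nat.card G ∣ Nat.card (GL (Fin 4) (ZMod 3)) := by
    let b := Module.finBasisOfFinrankEq (ZMod 3) V hn
    let e : (V ≃ₗ[ZMod 3] V) ≃* GL (Fin 4) (ZMod 3) :=
      (LinearMap.GeneralLinearGroup.generalLinearEquiv (ZMod 3) V).symm.trans
        (Units.mapEquiv (algEquivMatrix b).toMulEquiv)
    exact Subgroup.card_dvd_of_injective (e.toMonoidHom.comp ρ) (e.injective.comp hρ)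
  rw [Matrix.card_GL_field] at hGL
  simp only [Fintype.card_fin, ZMod.card, Fin.prod_univ_four] at hGL
  norm_num at hGL
  have hG : Nat.card G ∣ 2560 := by
    have e : (24261120 : ℕ) = 2560 * (3 ^ 6 * 13) := by norm_num
    rw [e] at hGL
    refine Nat.Coprime.dvd_of_dvd_mul_right ?_ hGL
    exact Nat.Coprime.mul_right
      (Nat.Coprime.pow_right _ (((by norm_num : Nat.Prime 3).coprime_iff_not_dvd.2 h3).symm))
      (((by norm_num : Nat.Prime 13).coprime_iff_not_dvd.2 h13).symm)
  obtain ⟨h640, hk⟩ := hS.final hG h80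
  -- orbit and stabiliser
  have hidx : Nat.card G = 80 * Nat.card (stab ρ v) := by
    letI : MulAction G V := MulAction.compHom V ρ
    have hst : stab ρ v = MulAction.stabilizer G v := rfl
    have horb : MulAction.orbit G v = {0}ᶜ := by
      ext w
      constructor
      · rintro ⟨g, rfl⟩
        exact fun h => hv ((ρ g).map_eq_zero_iff.1 h)
      · intro hw
        obtain ⟨g, hg⟩ := ht v w hv hw
        exact ⟨g, hg⟩
    have hcard : (MulAction.orbit G v).ncard = 80 := by
      rw [horb, Set.ncard_compl, Set.ncard_singleton, card_eq_pow (q := 3) (V := V), hn]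
      norm_num
    rw [hst, ← hcard, ← MulAction.index_stabilizer, Subgroup.index_mul_card]
  have hstab : Nat.card (ConjClasses (stab ρ v)) ≤ Nat.card (stab ρ v) :=
    Nat.card_le_card_of_surjective _ ConjClasses.mk_surjective
  rw [card_eq_pow (q := 3) (V := V), hn]
  norm_num
  omega

end Cfsg.Agent.Lib.TransKGV94
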